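import Cfsg.Agent.KM.Ev.A1

/-!
# KM, `l = 2`, simply laced types: the quadratic form on the involutions of the torus (helper27)

* `B`, `E2`, `Sl X` (simply laced), `Un X` (unimodular modulo two), `tw X x`, `RT X t`;
* `Un.uniq`, `rt_tw`, `stable`; `Sat`, `Or2`, `Clo`, `BoxSat`; `Sat.mem`;
* `tor_rel` (abelian subgroups of a Levi subgroup all of whose subsystems are saturated), `tor_three`.
-/

set_option autoImplicit false
set_option linter.unusedSectionVars false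

namespace Cfsg.Agent.KM.Ev.Q2

open Cfsg Subgroup Cfsg.Agent.DL Cfsg.Agent.Nodes.Reps Cfsg.Agent.Nodes.BNOf Cfsg.Agent.Nodes.Coroot Cfsg.Agent.BpExc.Zc
  Cfsg.Agent.TO.X5 Cfsg.Agent.ChevalleyStructure.CoxeterGeom Cfsg.Agent.Tits.Roots Matrix Cfsg.Agent.KM.Tor
open Cfsg.Agent.TO.X.Cn (cl cl_add cl_smul cl_zero Pi1 exists_exp χ_exp)
open Cfsg.Agent.KM.Ht (Z0 mem_Z0 Z0_le_T cen_comm_Z0)

/-- even vectors -/
def E2 {ι : Type} (x : ι → ℤ) : Prop := ∃ y, x = (2 : ℤ) • y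

theorem E2.add {ι : Type} {x y : ι → ℤ} (h : E2 x) (h' : E2 y) : E2 (x + y) :=
  let ⟨a, ha⟩ := h; let ⟨b, hb⟩ := h'; ⟨a + b, by rw [ha, hb, smul_add]⟩

theorem E2.neg {ι : Type} {x : ι → ℤ} (h : E2 x) : E2 (-x) := let ⟨a, ha⟩ := h; ⟨-a, by rw [ha, smul_neg]⟩

theorem e2_two {ι : Type} (x : ι → ℤ) : E2 ((2 : ℤ) • x) := ⟨x, rfl⟩

theorem e2_iff {ι : Type} {x : ι → ℤ} : E2 x ↔ ∀ i, 2 ∣ x i :=
  ⟨fun ⟨y, e⟩ i => ⟨y i, congrFun e i⟩, fun h => ⟨fun i => (h i).choose, funext fun i => (h i).choose_spec⟩⟩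

variable {p : ℕ} [Fact p.Prime] {k : Type} [Field k] [CharP k p] {Y : Type} [Group Y] {N : Type} [Fintype N]
  [DecidableEq N] {ρ : Y →* GL N k} {F : MulAut Y} {G : Subgroup Y} [IsAlgClosed k] (X : Datum p ρ F G)

/-- the form on the root lattice -/
def B (a x : X.I → ℤ) : ℤ := X.wt a ⬝ᵥ cl X x

/-- simply laced -/
structure Sl : Prop where
  comm : ∀ x y, B X x y = B X y x
  cor : ∀ a, X.Rt a → X.cor a = cl X a

/-- unimodular modulo two -/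
structure Un : Prop extends Sl X where
  even : ∀ x, 2 ∣ B X x x
  surj : ∀ u, ∃ x, E2 (u - cl X x)
  nd : ∀ x, (∀ y, 2 ∣ B X x y) → E2 x
  rt : ∀ x, ¬ 4 ∣ B X x x → ∃ a, X.Rt a ∧ E2 (x - a)

/-- the involutions of the torus -/
noncomputable def tw (x : X.I → ℤ) : Y := X.τ (coch (cl X x) (-1))

/-- of root type -/
def RT (t : Y) : Prop := ∃ K, Rk X t K

/-- saturated at two -/
def Sat (Ψ : Set (X.I → ℤ)) : Prop := ∀ (j : ℕ) (u : X.R → ℤ), (∀ a ∈ Ψ, (2 : ℤ) ^ j ∣ X.wt a ⬝ᵥ u) →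
  ∃ c : ℤ, ¬ 2 ∣ c ∧ ∃ v, ∀ a ∈ Ψ, X.wt a ⬝ᵥ (c • u + (2 : ℤ) ^ j • v) = 0

/-- orthogonal roots with an even sum -/
def Or2 (Ψ : Set (X.I → ℤ)) : Prop := ∃ s : Finset (X.I → ℤ), s.Nonempty ∧ (∀ a ∈ s, a ∈ Ψ) ∧
  (∀ a ∈ s, ∀ b ∈ s, a ≠ b → B X a b = 0) ∧ E2 (X.wt (∑ a ∈ s, a))

/-- closed under reflections -/
def Clo (Ψ : Set (X.I → ℤ)) : Prop := (∀ a ∈ Ψ, X.Rt a) ∧ ∀ a ∈ Ψ, ∀ b ∈ Ψ, b - B X b a • a ∈ Ψ

/-- **[SAT]** -/
def BoxSat : Prop :=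
  ∀ {p : ℕ} [Fact p.Prime] {k : Type} [Field k] [CharP k p] {Y : Type} [Group Y] {N : Type} [Fintype N]
    [DecidableEq N] {ρ : Y →* GL N k} {F : MulAut Y} {G : Subgroup Y} [IsAlgClosed k] (X : Datum p ρ F G),
    Sl X → ∀ Ψ, Clo X Ψ → Sat X Ψ ∨ Or2 X Ψ

/-- type `E₆` -/
structure S6 : Prop extends Un X where
  card : Nat.card X.I = 6
  sing : ∀ x, 4 ∣ B X x x → ∃ v, ∀ a, X.Rt a → (2 ∣ B X a x ↔ X.wt a ⬝ᵥ v = 0)
  wit : ∀ x y z, 4 ∣ B X x x → 4 ∣ B X y y → 4 ∣ B X z z → 2 ∣ B X x y → 2 ∣ B X x z → 2 ∣ B X y z →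
    E2 x ∨ E2 y ∨ E2 (x + y) ∨ E2 z ∨ E2 (x + z) ∨ E2 (y + z) ∨ E2 (x + y + z)

variable {X} {a b c x y z : X.I → ℤ} {t g : Y} {K D : Subgroup Y} {Z : Set Y} {Ψ : Set (X.I → ℤ)}

theorem B_add_left (a b x : X.I → ℤ) : B X (a + b) x = B X a x + B X b x := by rw [B, map_add, add_dotProduct]; rfl

theorem B_add_right (a x y : X.I → ℤ) : B X a (x + y) = B X a x + B X a y := by rw [B, cl_add, dotProduct_add]; rfl

theorem B_smul_left (m : ℤ) (a x : X.I → ℤ) : B X (m • a) x = m * B X a x := by rw [B, map_zsmul, smul_dotProduct]; rfl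

theorem B_smul_right (m : ℤ) (a x : X.I → ℤ) : B X a (m • x) = m * B X a x := by rw [B, cl_smul, dotProduct_smul]; rfl

theorem B_neg_left (a x : X.I → ℤ) : B X (-a) x = -B X a x := by rw [← neg_one_zsmul, B_smul_left, neg_one_mul]

theorem B_neg_right (a x : X.I → ℤ) : B X a (-x) = -B X a x := by rw [← neg_one_zsmul, B_smul_right, neg_one_mul]

theorem B_sub_left (a b x : X.I → ℤ) : B X (a - b) x = B X a x - B X b x := by
  rw [sub_eq_add_neg, B_add_left, B_neg_left, sub_eq_add_neg]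

theorem B_sub_right (a x y : X.I → ℤ) : B X a (x - y) = B X a x - B X a y := by
  rw [sub_eq_add_neg, B_add_right, B_neg_right, sub_eq_add_neg]

theorem E2.left (h : E2 a) (x : X.I → ℤ) : 2 ∣ B X a x := let ⟨_, e⟩ := h; ⟨_, e ▸ B_smul_left ..⟩

theorem E2.right (h : E2 x) (a : X.I → ℤ) : 2 ∣ B X a x := let ⟨_, e⟩ := h; ⟨_, e ▸ B_smul_right ..⟩

theorem Sl.sq (h : Sl X) (x y : X.I → ℤ) : B X (x + y) (x + y) = B X x x + 2 * B X x y + B X y y := by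
  rw [B_add_left, B_add_right, B_add_right, h.comm y x]; ring

theorem Sl.cpr (h : Sl X) (ha : X.Rt a) (b : X.I → ℤ) : cpr X.cs X.h b a = B X b a := by
  rw [← X.pair_cor ha, h.cor a ha]; rfl

theorem Sl.self (h : Sl X) (ha : X.Rt a) : B X a a = 2 := by rw [← h.cpr ha, cpr_self _ _ ha]

theorem Sl.bd (h : Sl X) (ha : X.Rt a) (hb : X.Rt b) (h1 : b ≠ a) (h2 : b ≠ -a) : -1 ≤ B X b a ∧ B X b a ≤ 1 := by
  have := Base.cpr_mul_lt hb ha h1 h2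
  rw [h.cpr ha, h.cpr hb, h.comm a b] at this
  constructor <;> nlinarith

theorem Sl.lg (h : Sl X) (ha : X.Rt a) : Lg X a := ⟨ha, fun c hc h1 => by
  rw [h.cpr ha]
  by_cases h2 : c = -a
  · rw [h2, B_neg_left, h.self ha]; omega
  · exact (h.bd ha hc h1 h2).2⟩

theorem Sl.rf (h : Sl X) (ha : X.Rt a) (hb : X.Rt b) : X.Rt (b - B X b a • a) := by
  rw [← h.cpr ha, ← X.act_rf ha]
  exact hb.act _

theorem Sl.clo (h : Sl X) (Z : Set Y) : Clo X (X.Sz Z) := ⟨fun _ ha => ha.1, fun a ha b hb => ⟨h.rf ha.1 hb.1, fun z hz => by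
  rw [sub_eq_add_neg, X.χ_add, X.χ_neg, X.χ_zsmul, ha.2 z hz, hb.2 z hz, _root_.one_zpow, inv_one, one_mul]⟩⟩

theorem Sl.four (h : Sl X) (e : E2 (x - y)) : 4 ∣ B X x x - B X y y := by
  obtain ⟨z, e⟩ := e
  rw [sub_eq_iff_eq_add'.1 e, h.sq, B_smul_right, B_smul_left, B_smul_right]
  exact ⟨B X y z + B X z z, by ring⟩

theorem Un.four (h : Un X) (e : E2 x) : 8 ∣ B X x x := by
  obtain ⟨z, rfl⟩ := e
  obtain ⟨m, hm⟩ := h.even z
  rw [B_smul_left, B_smul_right, hm]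
  exact ⟨m, by ring⟩

theorem Un.not_e2 (h : Un X) (ha : X.Rt a) : ¬ E2 a := fun e => by have := h.four e; rw [h.self ha] at this; omega

/-- roots which are congruent modulo two -/
theorem Un.uniq (h : Un X) (ha : X.Rt a) (hb : X.Rt b) (e : E2 (b + a)) : b = a ∨ b = -a := by
  by_contra h1
  rw [not_or] at h1
  have h2 := h.bd ha hb h1.1 h1.2
  have h3 := h.four e
  rw [h.sq, h.self ha, h.self hb] at h3
  omega

theorem tw_mem (x : X.I → ℤ) : tw X x ∈ X.T := X.τ_mem _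

theorem tw_add (x y : X.I → ℤ) : tw X (x + y) = tw X x * tw X y := by rw [tw, cl_add, coch_add, map_mul]; rfl

theorem coch_e2 {R : Type} [Fintype R] {u : R → ℤ} (h : E2 u) : coch u (-1 : kˣ) = 1 := by
  obtain ⟨v, rfl⟩ := h
  rw [coch_zsmul, zpow_ofNat, neg_one_sq, map_one]

theorem tw_e2 (h : E2 x) : tw X x = 1 := by
  obtain ⟨y, rfl⟩ := h
  rw [tw, cl_smul, coch_e2 (e2_two _), map_one]

theorem tw_sq (x : X.I → ℤ) : tw X x * tw X x = 1 := by rw [← tw_add, tw_e2 ⟨x, (two_zsmul x).symm⟩]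

theorem tw_congr (h : E2 (x - y)) : tw X x = tw X y := by rw [← sub_add_cancel x y, tw_add, tw_e2 h, one_mul]

theorem Sl.ct (h : Sl X) (ha : X.Rt a) : ct X a (-1) = tw X a := by rw [TO.X5.ct, h.cor a ha]; rfl

theorem χ_tw (hp : p ≠ 2) (a x : X.I → ℤ) : X.χ a (tw X x) = 1 ↔ 2 ∣ B X a x := by
  rw [tw, χ_exp, ord_neg hp]; rfl

theorem Un.tw_eq_one (h : Un X) (hp : p ≠ 2) : tw X x = 1 ↔ E2 x :=
  ⟨fun e => h.nd x fun y => h.comm y x ▸ (χ_tw hp y x).1 (e ▸ X.χ_one y), tw_e2⟩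

theorem Un.tw_eq (h : Un X) (hp : p ≠ 2) : tw X x = tw X y ↔ E2 (x + y) := by
  rw [← h.tw_eq_one hp, tw_add, mul_eq_one_iff_eq_inv, inv_eq_of_mul_eq_one_left (tw_sq y)]

theorem Un.exists_tw (h : Un X) (ht : t ∈ X.T) (h2 : t * t = 1) : ∃ x, t = tw X x := by
  obtain ⟨ζ, v, -, h1, rfl⟩ := exists_exp X ht
  have h3 : (ζ : k) * ζ = 1 := by
    rw [← Units.val_mul, ← sq, orderOf_dvd_iff_pow_eq_one.1 (h1.trans (orderOf_dvd_of_pow_eq_one ((sq _).trans h2))),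
      Units.val_one]
  rcases mul_self_eq_one_iff.1 h3 with e | e
  · exact ⟨0, by rw [show ζ = 1 from Units.ext e, map_one, map_one, tw_e2 ⟨0, (smul_zero _).symm⟩]⟩
  · obtain ⟨x, hx⟩ := h.surj v
    exact ⟨x, by rw [show ζ = -1 from Units.ext e, ← sub_add_cancel v (cl X x), coch_add, coch_e2 hx, one_mul]; rfl⟩

theorem RT.conj (h : RT X t) (hg : g ∈ G) : RT X (g⁻¹ * t * g) :=
  let ⟨_, y, hy, a, ha, e, _⟩ := h
  ⟨_, g⁻¹ * y, mul_mem (inv_mem hg) hy, a, ha, by rw [← e]; group, rfl⟩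

theorem RT.of_conj (hg : g ∈ G) (h : RT X (g⁻¹ * t * g)) : RT X t := by simpa [mul_assoc] using h.conj (inv_mem hg)

/-- **root type and the quadratic form** -/
theorem rt_tw (cz : CommZ X.cs X.h X.X) (hp : p ≠ 2) (h : Un X) : RT X (tw X x) ↔ ¬ 4 ∣ B X x x := by
  refine ⟨fun ⟨K, h1⟩ h2 => ?_, fun h1 => ?_⟩
  · obtain ⟨a, ha, e, -⟩ := h1.move cz hp (one_mem _) (by simpa using tw_mem x)
    rw [inv_one, one_mul, mul_one, h.ct ha.1, h.tw_eq hp] at e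
    have h3 := h.toSl.four (x := x) (y := -a) (by rwa [sub_neg_eq_add])
    rw [B_neg_left, B_neg_right, h.self ha.1] at h3
    omega
  · obtain ⟨a, ha, e⟩ := h.rt x h1
    exact ⟨_, 1, one_mem _, a, h.lg ha, by rw [inv_one, one_mul, mul_one, h.ct ha, tw_congr e], rfl⟩

/-- the group of rank one of a rational involution is stable -/
theorem stable (cz : CommZ X.cs X.h X.X) (hp : p ≠ 2) (h : Un X) (ht : F t = t) (hK : Rk X t K) : ∀ y ∈ K, F y ∈ K := by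
  intro y hy
  obtain ⟨g, hg, a, ha, e, e'⟩ := id hK
  have h1 : (F g)⁻¹ * t * F g = ct X (X.g a) (-1) := by
    rw [← ht, ← map_inv, ← map_mul, ← map_mul, e, F_ct ha.1, (((Fact.out : p.Prime).odd_of_ne_two hp).pow).neg_one_pow]
  obtain ⟨b, hb, h2, h3⟩ := hK.move cz hp (X.F_mem_G hg) (h1 ▸ ct_mem _ _)
  rw [h1, h.ct hb.1, h.ct (X.g_root a ha.1), h.tw_eq hp] at h2
  rw [h3, mem_cj, ← map_inv, ← map_mul, ← map_mul]
  refine X.F_mem_S (TO.G2D.rt_pair ha.1) ?_ (mem_cj.1 (e' ▸ hy))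
  rintro _ (rfl | rfl)
  · exact h.uniq hb.1 (X.g_root _ ha.1) h2
  · rw [X.g_neg ha.1]
    exact (h.uniq hb.1 (X.g_root _ ha.1) h2).symm.imp (fun e => by rw [e, neg_neg]) fun e => congrArg _ e

/-! ### saturated subsystems -/

theorem Sat.mem (h : Sat X (X.Sz Z)) (ht : t ∈ X.T) {j : ℕ} (h1 : t ^ 2 ^ j = 1) (h2 : ∀ a ∈ X.Sz Z, X.χ a t = 1) :
    t ∈ Z0 X Z := by
  obtain ⟨ζ, u, -, h3, rfl⟩ := exists_exp X ht
  obtain ⟨i, -, hi⟩ := (Nat.dvd_prime_pow Nat.prime_two).1 (h3.trans (orderOf_dvd_of_pow_eq_one h1))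
  obtain ⟨c, hc, v, h4⟩ := h i u fun a ha => by simpa only [hi, Nat.cast_pow, Nat.cast_ofNat] using (χ_exp X a u ζ).1 (h2 a ha)
  obtain ⟨m, n, e⟩ := ((Int.prime_two.coprime_iff_not_dvd.2 hc).symm.pow_right (n := i))
  have h5 : coch u ζ = coch (c • u + (2 : ℤ) ^ i • v) (ζ ^ m) := funext fun r => by
    rw [coch_apply, coch_apply, ← _root_.zpow_mul, ← mul_inv_eq_one, ← _root_.zpow_sub, ← orderOf_dvd_iff_zpow_eq_one, hi]
    refine ⟨n * u r - m * v r, ?_⟩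
    simp only [Pi.add_apply, Pi.smul_apply, smul_eq_mul, Nat.cast_pow, Nat.cast_ofNat]
    linear_combination (-u r) * e
  exact h5 ▸ mem_Z0 h4 _

theorem Sat.le (h : Sat X (X.Sz Z)) (hZ : Z ⊆ X.T) (he : El 2 Z) : Z ⊆ Z0 X Z := fun z hz =>
  let ⟨_, hj⟩ := he z hz
  h.mem (hZ hz) hj fun _ ha => ha.2 z hz

variable {f : ℕ} (hP : Pi1 X f) (hf : Nat.Coprime 2 f) (hp : p ≠ 2)
include hP hf

theorem cc_one (ht : t ∈ X.T) {j : ℕ} (h1 : t ^ 2 ^ j = 1) : CC X {t} := fun _ hy h =>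
  TO.X.Cn.mem_cen hP ht h1 (hf.pow_left j) hy (h t rfl).symm

include hp

theorem cc_ins (hq : QC X Z) (hc : CC X Z) (ht : t ∈ X.T) {j : ℕ} (h1 : t ^ 2 ^ j = 1) : CC X (insert t Z) :=
  let ⟨_, a1, ⟨_, a2⟩, a3⟩ := exists_one Nat.prime_two hp.symm hq ht h1
  hc.insert hP hf ht a1 a2 a3

theorem cc_rel {A : Set Y} (hA : A ⊆ X.T) (eA : El 2 A) (cA : CC X A)
    (hS : ∀ Z, A ⊆ Z → Sat X (X.Sz Z)) (hfin : Z.Finite) (hZ : Z ⊆ X.T) (he : El 2 Z) : CC X (Z ∪ A) := by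
  induction Z, hfin using Set.Finite.induction_on with
  | empty => rwa [Set.empty_union]
  | @insert t Z _ _ ih =>
    have h1 : Z ⊆ X.T := (Set.subset_insert _ _).trans hZ
    have h2 : El 2 Z := fun z hz => he z (Set.mem_insert_of_mem _ hz)
    obtain ⟨j, hj⟩ := he t (Set.mem_insert _ _)
    rw [Set.insert_union]
    exact cc_ins hP hf hp (qc_of_le ((hS _ Set.subset_union_right).le (Set.union_subset h1 hA)
      fun z hz => hz.elim (h2 z) (eA z))) (ih h1 h2) (hZ (Set.mem_insert _ _)) hj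

/-- **commuting `2`-elements in a connected centraliser with saturated subsystems** -/
theorem tor_rel {A : Set Y} (fA : A.Finite) (hA : A ⊆ X.T) (eA : El 2 A) (cA : CC X A)
    (hS : ∀ Z, A ⊆ Z → Sat X (X.Sz Z)) (hfin : Z.Finite) (hG : Z ⊆ G) (he : El 2 Z)
    (hc : ∀ a ∈ Z, ∀ b ∈ Z, a * b = b * a) (hs : ∀ a ∈ A, ∀ b ∈ Z, a * b = b * a) :
    ∃ g ∈ G, (∀ a ∈ A, a * g = g * a) ∧ ∀ z ∈ Z, g⁻¹ * z * g ∈ X.T := by
  induction Z, hfin using Set.Finite.induction_on with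
  | empty => exact ⟨1, one_mem _, fun _ _ => by rw [mul_one, one_mul], fun _ h => h.elim⟩
  | @insert t Z _ hfin ih =>
    obtain ⟨g, hg, h0, h1⟩ := ih ((Set.subset_insert _ _).trans hG) (fun z hz => he z (.inr hz))
      (fun a ha b hb => hc a (.inr ha) b (.inr hb)) fun a ha b hb => hs a ha b (.inr hb)
    have e : ∀ z ∈ insert t Z, ∃ j : ℕ, (g⁻¹ * z * g) ^ 2 ^ j = 1 := fun z hz => (he z hz).imp fun _ => conj_pow'
    have h2 : (fun z => g⁻¹ * z * g) '' Z ⊆ X.T := fun _ ⟨z, hz, e⟩ => e ▸ h1 z hz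
    have h5 := Set.union_subset h2 hA
    obtain ⟨j, hj⟩ := e t (.inl rfl)
    obtain ⟨c, h3, h4⟩ := toral_cen h5 ((hfin.image _).union fA) (y := g⁻¹ * t * g)
      (cc_rel hP hf hp hA eA cA hS (hfin.image _) h2 (fun _ ⟨z, hz, e'⟩ => e' ▸ e z (.inr hz)) _
        (mul_mem (mul_mem (inv_mem hg) (hG (.inl rfl))) hg) (by
          rintro _ (⟨z, hz, rfl⟩ | hz)
          · exact conj_comm (hc z (.inr hz) t (.inl rfl))
          · have := conj_comm (g := g) (hs _ hz t (.inl rfl))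
            rwa [mul_assoc g⁻¹ _ g, h0 _ hz, inv_mul_cancel_left] at this)) (not_dvd_ord Nat.prime_two hp.symm hj)
    have h6 := X.cen_le_centralizer h5 h3
    refine ⟨g * c, mul_mem hg (X.cen_le_G _ h3), fun a ha => by rw [← mul_assoc, h0 a ha, mul_assoc, h6 a (.inr ha), mul_assoc], ?_⟩
    rintro z (rfl | hz)
    · rwa [show (g * c)⁻¹ * z * (g * c) = c⁻¹ * (g⁻¹ * z * g) * c by group]
    · rw [show (g * c)⁻¹ * z * (g * c) = c⁻¹ * (g⁻¹ * z * g * c) by group, h6 _ (.inl ⟨z, hz, rfl⟩), inv_mul_cancel_left]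
      exact h1 z hz

omit hP hf in
theorem step (hfin : Z.Finite) (hZ : Z ⊆ X.T) (hc : CC X Z) (ht : t ∈ G) {j : ℕ} (h1 : t ^ 2 ^ j = 1)
    (h2 : ∀ z ∈ Z, z * t = t * z) : ∃ c ∈ G, (∀ z ∈ Z, c⁻¹ * z * c = z) ∧ c⁻¹ * t * c ∈ X.T :=
  let ⟨c, h3, h4⟩ := toral_cen hZ hfin (hc t ht h2) (not_dvd_ord Nat.prime_two hp.symm h1)
  ⟨c, X.cen_le_G _ h3, fun z hz => by rw [mul_assoc, X.cen_le_centralizer hZ h3 z hz, inv_mul_cancel_left], h4⟩

/-- two commuting `2`-elements -/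
theorem tor_two {r s : Y} (hr : r ∈ G) (hs : s ∈ G) {i j : ℕ} (h1 : r ^ 2 ^ i = 1) (h2 : s ^ 2 ^ j = 1) (h : r * s = s * r) :
    ∃ g ∈ G, g⁻¹ * r * g ∈ X.T ∧ g⁻¹ * s * g ∈ X.T := by
  obtain ⟨g, hg, -, h3⟩ := step (X := X) hp Set.finite_empty (Set.empty_subset _) cc_empty hr h1 fun _ h => h.elim
  obtain ⟨c, hc, h4, h5⟩ := step hp (Set.finite_singleton _) (Set.singleton_subset_iff.2 h3) (cc_one hP hf h3 (conj_pow' h1))
    (mul_mem (mul_mem (inv_mem hg) hs) hg) (conj_pow' h2) fun _ e => e ▸ conj_comm h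
  have e : ∀ d : Y, (g * c)⁻¹ * d * (g * c) = c⁻¹ * (g⁻¹ * d * g) * c := fun _ => by group
  exact ⟨g * c, mul_mem hg hc, by rwa [e, h4 _ rfl], e s ▸ h5⟩

/-- three commuting `2`-elements, the first one of Levi type -/
theorem tor_three {r s u : Y} (hr : r ∈ G) (hs : s ∈ G) (hu : u ∈ G) {i j m : ℕ} (h1 : r ^ 2 ^ i = 1) (h2 : s ^ 2 ^ j = 1)
    (h3 : u ^ 2 ^ m = 1) (rs : r * s = s * r) (ru : r * u = u * r) (su : s * u = u * s)
    (hq : ∀ g ∈ G, g⁻¹ * r * g ∈ X.T → QC X {g⁻¹ * r * g}) :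
    ∃ g ∈ G, g⁻¹ * r * g ∈ X.T ∧ g⁻¹ * s * g ∈ X.T ∧ g⁻¹ * u * g ∈ X.T := by
  obtain ⟨g, hg, h4, h5⟩ := tor_two hP hf hp hr hs h1 h2 rs
  obtain ⟨c, hc, h6, h7⟩ := step hp (Set.toFinite _) (Set.insert_subset h5 (Set.singleton_subset_iff.2 h4))
    (cc_ins hP hf hp (hq g hg h4) (cc_one hP hf h4 (conj_pow' h1)) h5 (conj_pow' h2))
    (mul_mem (mul_mem (inv_mem hg) hu) hg) (conj_pow' h3) (by
      rintro _ (rfl | rfl)
      exacts [conj_comm su, conj_comm ru])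
  have e : ∀ d : Y, (g * c)⁻¹ * d * (g * c) = c⁻¹ * (g⁻¹ * d * g) * c := fun _ => by group
  exact ⟨g * c, mul_mem hg hc, by rwa [e, h6 _ (.inr rfl)], by rwa [e, h6 _ (.inl rfl)], e u ▸ h7⟩

end Cfsg.Agent.KM.Ev.Q2
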