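import Cfsg.Agent.KM.Ev.E6R
import Cfsg.Agent.KM.Tor.K0

/-!
# KM, `l = 2` : the lattices of type `E₆`, `E₇`, `E₈` modulo two (helper67)

* `sl_of`, `un_of` ; `sl7`, `un8`, `s6`, `boxS6 : BoxS6`, `cz`.
-/

set_option autoImplicit false
set_option linter.unusedSectionVars false

namespace Cfsg.Agent.KM.Ev.Q2

open Cfsg Cfsg.Lie Cfsg.Agent.DL Cfsg.Agent.Nodes.Reps Matrix Finset Cfsg.Agent.KZ.DatX Cfsg.Agent.Nodes.RGDChev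
  Cfsg.Agent.ChevalleyStructure.NPerm Cfsg.Agent.ChevalleyStructure.CoxeterGeom
  Cfsg.Agent.ChevalleyStructure.CoxeterGeomTypes Cfsg.Agent.Tits.Roots Cfsg.Agent.KM.Tor
open Cfsg.Agent.H92.NE (bl bl_apply bl_comm)
open Cfsg.Agent.TO.X.Cn (cl PM pm_E6 pm_E8)

namespace X67

/-- binary digits -/
def bt (n m : ℕ) : Fin n → ℤ := fun i => ((m / 2 ^ (i : ℕ) % 2 : ℕ) : ℤ)

theorem exists_bt {n : ℕ} (x : Fin n → ℤ) : ∃ m : Fin (2 ^ n), E2 (x - bt n m) := by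
  let f : Fin n → Fin 2 := fun i => ⟨(x i % 2).toNat, by omega⟩
  refine ⟨finFunctionFinEquiv f, e2_iff.2 fun i => ?_⟩
  have h := finFunctionFinEquiv_symm_apply_val (finFunctionFinEquiv f) i
  rw [Equiv.symm_apply_apply] at h
  change 2 ∣ x i - (((finFunctionFinEquiv f : ℕ) / 2 ^ (i : ℕ) % 2 : ℕ) : ℤ)
  rw [← h]
  change 2 ∣ x i - ((x i % 2).toNat : ℤ)
  omega

theorem e2_of {ι : Type} {x x' : ι → ℤ} (h : E2 (x - x')) (h' : E2 x') : E2 x := sub_add_cancel x x' ▸ h.add h'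

theorem e2_add {ι : Type} {x x' y y' : ι → ℤ} (h : E2 (x - x')) (h' : E2 (y - y')) : E2 (x + y - (x' + y')) :=
  add_sub_add_comm x y x' y' ▸ h.add h'

theorem e2_bt (n m : ℕ) : E2 (bt n m + bt n m) := ⟨_, (two_zsmul _).symm⟩

/-- the table for the roots modulo two -/
def RtT (C : ChevalleyDatum) (n : ℕ) (q : (Fin n → ℤ) → (Fin n → ℤ) → ℤ) (T : List ℕ) : Prop :=
  ∀ m : Fin (2 ^ n), 4 ∣ q (bt n m) (bt n m) ∨ T.getD m 0 < C.nroots ∧ ∀ i, 2 ∣ bt n m i - vec C n (T.getD m 0) i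

instance RtT.dec {C : ChevalleyDatum} {n : ℕ} {q : (Fin n → ℤ) → (Fin n → ℤ) → ℤ} {T : List ℕ} : Decidable (RtT C n q T) := by
  unfold RtT; infer_instance

/-- the form of type `E₆` -/
def f6 (x y : Fin 6 → ℤ) : ℤ := x 0 * (2 * y 0 - y 2) + x 1 * (2 * y 1 - y 3) + x 2 * (2 * y 2 - y 0 - y 3) +
  x 3 * (2 * y 3 - y 1 - y 2 - y 4) + x 4 * (2 * y 4 - y 3 - y 5) + x 5 * (2 * y 5 - y 4)

/-- the form of type `E₈` -/
def f8 (x y : Fin 8 → ℤ) : ℤ := x 0 * (2 * y 0 - y 2) + x 1 * (2 * y 1 - y 3) + x 2 * (2 * y 2 - y 0 - y 3) +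
  x 3 * (2 * y 3 - y 1 - y 2 - y 4) + x 4 * (2 * y 4 - y 3 - y 5) + x 5 * (2 * y 5 - y 4 - y 6) +
  x 6 * (2 * y 6 - y 5 - y 7) + x 7 * (2 * y 7 - y 6)

theorem c6 : cartanOf chevE6 6 = ![![2, 0, -1, 0, 0, 0], ![0, 2, 0, -1, 0, 0], ![-1, 0, 2, -1, 0, 0],
    ![0, -1, -1, 2, -1, 0], ![0, 0, 0, -1, 2, -1], ![0, 0, 0, 0, -1, 2]] := by decide +kernel

theorem c8 : cartanOf chevE8 8 = ![![2, 0, -1, 0, 0, 0, 0, 0], ![0, 2, 0, -1, 0, 0, 0, 0], ![-1, 0, 2, -1, 0, 0, 0, 0],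
    ![0, -1, -1, 2, -1, 0, 0, 0], ![0, 0, 0, -1, 2, -1, 0, 0], ![0, 0, 0, 0, -1, 2, -1, 0], ![0, 0, 0, 0, 0, -1, 2, -1],
    ![0, 0, 0, 0, 0, 0, -1, 2]] := by decide +kernel

theorem bl6 (x y : Fin 6 → ℤ) : bl (cartanOf chevE6 6) x y = f6 x y := by
  rw [c6, bl_apply, f6]
  simp only [Fin.sum_univ_six, Matrix.cons_val]
  ring

theorem bl8 (x y : Fin 8 → ℤ) : bl (cartanOf chevE8 8) x y = f8 x y := by
  rw [c8, bl_apply, f8]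
  simp only [Fin.sum_univ_eight, Matrix.cons_val]
  ring

theorem rt6 : RtT chevE6 6 f6 [0, 15, 25, 0, 29, 14, 0, 0, 32, 0, 24, 0, 28, 13, 21, 10, 34, 0, 0, 4, 0, 0, 18, 7, 31, 0, 23, 0,
    27, 12, 20, 9, 35, 0, 0, 2, 0, 0, 16, 5, 0, 0, 0, 1, 0, 0, 0, 0, 33, 0, 0, 3, 0, 0, 17, 6, 30, 0, 22, 0, 26, 11, 19, 8] := by
  decide +kernel

theorem rt8 : RtT chevE8 8 f8 [0, 77, 98, 0, 104, 76, 0, 0, 109, 0, 97, 0, 103, 75, 92, 70, 113, 0, 0, 55, 0, 0, 87, 65, 108, 0,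
    96, 0, 102, 74, 91, 69, 116, 0, 0, 51, 0, 0, 83, 61, 0, 35, 0, 45, 0, 0, 0, 0, 112, 0, 0, 54, 0, 0, 86, 64, 107, 0, 95, 0, 101,
    73, 90, 68, 118, 0, 0, 48, 0, 0, 80, 58, 0, 32, 0, 42, 0, 0, 0, 0, 0, 25, 0, 0, 13, 20, 0, 0, 0, 29, 0, 39, 0, 0, 0, 0, 115, 0,
    0, 50, 0, 0, 82, 60, 0, 34, 0, 44, 0, 0, 0, 0, 111, 0, 0, 53, 0, 0, 85, 63, 106, 0, 94, 0, 100, 72, 89, 67, 119, 0, 0, 46, 0,
    0, 78, 56, 0, 30, 0, 40, 0, 0, 0, 0, 0, 23, 2, 0, 11, 18, 0, 0, 0, 27, 0, 37, 0, 0, 0, 0, 0, 21, 4, 0, 9, 16, 0, 0, 7, 0, 5, 0,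
    8, 15, 6, 14, 0, 22, 3, 0, 10, 17, 0, 0, 0, 26, 0, 36, 0, 0, 0, 0, 117, 0, 0, 47, 0, 0, 79, 57, 0, 31, 0, 41, 0, 0, 0, 0, 0,
    24, 1, 0, 12, 19, 0, 0, 0, 28, 0, 38, 0, 0, 0, 0, 114, 0, 0, 49, 0, 0, 81, 59, 0, 33, 0, 43, 0, 0, 0, 0, 110, 0, 0, 52, 0, 0,
    84, 62, 105, 0, 93, 0, 99, 71, 88, 66] := by
  decide +kernel

/-- ternary digits -/
def tr (m : ℕ) : Fin 6 → ℤ := fun i => ((m / 3 ^ (i : ℕ) % 3 : ℕ) : ℤ) - 1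

/-- the singular classes with their coweights -/
def L6 : List (ℕ × ℕ) := [(0, 364), (3, 346), (6, 365), (7, 356), (9, 286), (11, 421), (17, 589), (18, 607), (20, 122), (21, 599),
  (25, 178), (27, 529), (33, 292), (34, 310), (36, 419), (37, 302), (40, 358), (42, 349), (44, 380), (45, 341), (46, 359),
  (47, 362), (49, 184), (50, 202), (52, 527), (53, 194), (57, 583), (59, 124)]

theorem mem6 : ∀ m : Fin (2 ^ 6), 4 ∣ f6 (bt 6 m) (bt 6 m) → ∃ p ∈ L6, p.1 = m := by decide +kernel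

theorem sing6 : ∀ p ∈ L6, ∀ s : Fin chevE6.nroots, 2 ∣ f6 (vec chevE6 6 s) (bt 6 p.1) ↔ vec chevE6 6 s ⬝ᵥ tr p.2 = 0 := by
  decide +kernel

theorem wit6 : ∀ p ∈ L6, p.1 = 0 ∨ ∀ q ∈ L6, 2 ∣ f6 (bt 6 p.1) (bt 6 q.1) → q.1 = 0 ∨ q.1 = p.1 ∨ ∀ t ∈ L6,
    2 ∣ f6 (bt 6 p.1) (bt 6 t.1) → 2 ∣ f6 (bt 6 q.1) (bt 6 t.1) → t.1 = 0 ∨ t.1 = p.1 ∨ t.1 = q.1 ∨
      ∀ i, 2 ∣ bt 6 p.1 i + bt 6 q.1 i + bt 6 t.1 i := by
  decide +kernel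

theorem e2_zero (n : ℕ) : E2 (bt n 0) := e2_iff.2 fun i => by simp [bt]

theorem cong2 {p : ℕ} [Fact p.Prime] {k : Type} [Field k] [CharP k p] {Y : Type} [Group Y] {N : Type} [Fintype N]
    [DecidableEq N] {ρ : Y →* GL N k} {F : MulAut Y} {G : Subgroup Y} [IsAlgClosed k] {X : Datum p ρ F G} {x x' y y' : X.I → ℤ}
    (h : E2 (x - x')) (h' : E2 (y - y')) : 2 ∣ B X x y ↔ 2 ∣ B X x' y' := by
  have h1 := h.left y
  have h2 := h'.right x'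
  rw [B_sub_left] at h1
  rw [B_sub_right] at h2
  omega

end X67

open X67

section Gen

variable {C : ChevalleyDatum} {n : ℕ} {M : CoxeterMatrix (Fin n)} {hp : IsType C n M} {r : ℕ} [Fact r.Prime] {k : Type}
  [Field k] [CharP k r] [IsAlgClosed k] {Mx : Matrix (Fin n) (Fin n) ℤ} (X : XF hp r k Mx)

theorem cz : Cfsg.Agent.BpExc.Zc.CommZ X.D.cs X.D.h X.D.X := TO.X5E.cz0 (hp := hp)

theorem cl_co (x : Fin n → ℤ) : cl X.D x = co C n x := funext fun j => (Finset.sum_apply j _ _).trans rfl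

theorem B_eq (a x : Fin n → ℤ) : B X.D a x = bl (cartanOf C n) a x := (congrArg (a ⬝ᵥ ·) (cl_co X x)).trans (dot_co x a)

theorem sl_of (h : SL C n) : Sl X.D :=
  ⟨fun x y => (B_eq X x y).trans ((bl_comm h.1.1 y x).trans (B_eq X y x).symm), fun a ha => (cor_eq X h ha).trans (cl_co X a).symm⟩

theorem surj_of {g : ℕ} (hf : PM C n (2 * g + 1)) (u : Fin n → ℤ) : ∃ x : Fin n → ℤ, E2 (u - co C n x) := by
  obtain ⟨Bm, hB⟩ := hf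
  refine ⟨fun i => ∑ j, u j * Bm j i, e2_iff.2 fun m => ?_⟩
  have e : ∑ i, (∑ j, u j * Bm j i) * cartanOf C n i m = u m * (2 * g + 1 : ℕ) := by
    simp only [sum_mul, mul_assoc]
    rw [sum_comm]
    simp only [← mul_sum, hB, mul_ite, mul_zero, sum_ite_eq', mem_univ, if_true]
  change 2 ∣ u m - ∑ i, (∑ j, u j * Bm j i) * cartanOf C n i m
  rw [e]
  exact ⟨-(u m * g), by push_cast; ring⟩

theorem un_of (h : SL C n) {g : ℕ} (hf : PM C n (2 * g + 1)) {q : (Fin n → ℤ) → (Fin n → ℤ) → ℤ}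
    (hq : ∀ x y, bl (cartanOf C n) x y = q x y) {T : List ℕ} (hT : RtT C n q T) : Un X.D := by
  have hs := sl_of X h
  have rt : ∀ x, ¬ 4 ∣ B X.D x x → ∃ a, X.D.Rt a ∧ E2 (x - a) := fun x hx => by
    obtain ⟨m, hm⟩ := exists_bt (n := n) x
    have h1 := hs.four (y := bt n m) hm
    rw [B_eq X (bt n m), hq] at h1
    obtain ⟨h2, h3⟩ := (hT m).resolve_left fun e => hx (by omega)
    exact ⟨_, rt_vec X ⟨_, h2⟩, sub_add_sub_cancel x (bt n m) _ ▸ hm.add (e2_iff.2 h3)⟩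
  refine ⟨hs, fun x => by_contra fun hx => ?_, fun u => (surj_of hf u).imp fun x e => cl_co X x ▸ e,
    fun (x : Fin n → ℤ) hx => e2_iff.2 fun (i : Fin n) => ?_, rt⟩
  · obtain ⟨a, ha, e⟩ := rt x fun e => hx (by omega)
    have h1 := hs.four e
    rw [hs.self ha] at h1
    omega
  · obtain ⟨y, z, e⟩ := surj_of hf (sr i)
    have h1 : x ⬝ᵥ (sr i - co C n y) = 2 * (x ⬝ᵥ z) := by rw [e, dotProduct_smul, smul_eq_mul]
    have h2 : 2 ∣ x ⬝ᵥ co C n y := cl_co X y ▸ hx y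
    rw [dotProduct_sub, dotProduct_comm _ (sr i), Ex.sr_dot] at h1
    omega

end Gen

variable {r : ℕ} [Fact r.Prime] {k : Type} [Field k] [CharP k r] [IsAlgClosed k]

theorem sl7 {Mx : Matrix (Fin 7) (Fin 7) ℤ} (X : XF hpE7 r k Mx) : Sl X.D := sl_of X (by decide +kernel)

theorem un8 {Mx : Matrix (Fin 8) (Fin 8) ℤ} (X : XF hpE8 r k Mx) : Un X.D :=
  un_of X (by decide +kernel) (g := 0) pm_E8 bl8 rt8

theorem un6 {Mx : Matrix (Fin 6) (Fin 6) ℤ} (X : XF hpE6 r k Mx) : Un X.D :=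
  un_of X (by decide +kernel) (g := 1) pm_E6 bl6 rt6

theorem s6 {Mx : Matrix (Fin 6) (Fin 6) ℤ} (X : XF hpE6 r k Mx) : S6 X.D := by
  have hu := un6 X
  have hb : ∀ x y : Fin 6 → ℤ, B X.D x y = f6 x y := fun x y => (B_eq X x y).trans (bl6 x y)
  have red : ∀ x : Fin 6 → ℤ, 4 ∣ B X.D x x → ∃ p ∈ L6, E2 (x - bt 6 p.1) := fun x hx => by
    obtain ⟨m, hm⟩ := exists_bt x
    have h1 := hu.toSl.four (y := bt 6 m) hm
    rw [hb (bt 6 m)] at h1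
    obtain ⟨p, h2, h3⟩ := mem6 m (by omega)
    exact ⟨p, h2, h3 ▸ hm⟩
  refine ⟨hu, Nat.card_fin 6, fun x hx => ?_, fun x y z hx hy hz hxy hxz hyz => ?_⟩
  · obtain ⟨p, h1, h2⟩ := red x hx
    refine ⟨tr p.2, fun a ha => (cong2 (X := X.D) (x' := a) ⟨0, by rw [sub_self, smul_zero]⟩ h2).trans ?_⟩
    exact (congrArg (2 ∣ ·) (hb a _)).to_iff.trans
      (forall_rt X (Q := fun a => 2 ∣ f6 a (bt 6 p.1) ↔ a ⬝ᵥ tr p.2 = 0) (sing6 p h1) a ha)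
  obtain ⟨p, p1, p2⟩ := red x hx
  obtain ⟨q, q1, q2⟩ := red y hy
  obtain ⟨t, t1, t2⟩ := red z hz
  rcases wit6 p p1 with e | h
  · exact .inl (e2_of p2 (e ▸ e2_zero 6))
  rcases h q q1 (hb _ _ ▸ (cong2 (X := X.D) p2 q2).1 hxy) with e | e | h
  · exact .inr (.inl (e2_of q2 (e ▸ e2_zero 6)))
  · exact .inr (.inr (.inl (e2_of (e2_add p2 q2) (e ▸ e2_bt 6 _))))
  refine .inr (.inr (.inr ?_))
  rcases h t t1 (hb _ _ ▸ (cong2 (X := X.D) p2 t2).1 hxz) (hb _ _ ▸ (cong2 (X := X.D) q2 t2).1 hyz) with e | e | e | e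
  · exact .inl (e2_of t2 (e ▸ e2_zero 6))
  · exact .inr (.inl (e2_of (e2_add p2 t2) (e ▸ e2_bt 6 _)))
  · exact .inr (.inr (.inl (e2_of (e2_add q2 t2) (e ▸ e2_bt 6 _))))
  · exact .inr (.inr (.inr (e2_of (e2_add (e2_add p2 q2) t2) (e2_iff.2 e))))

/-- **[S6]** -/
theorem boxS6 : BoxS6 := fun _ _ _ _ _ _ _ X => s6 X

end Cfsg.Agent.KM.Ev.Q2
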