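import Cfsg.Agent.KM.Ev.Q2
import Cfsg.Agent.KM.Tor.Bad2

/-!
# KM, `l = 2`, simply laced types: saturated subsystems (helper83)

* `sat_lat` : a sublattice without `2`-torsion in the quotient; `sat_or` : closed subsystems; `boxSat`.
-/

set_option autoImplicit false
set_option linter.unusedSectionVars false

namespace Cfsg.Agent.KM.Ev.Q2

open Cfsg Subgroup Cfsg.Agent.DL Cfsg.Agent.Nodes.Reps Cfsg.Agent.Nodes.BNOf Cfsg.Agent.Nodes.Coroot Cfsg.Agent.BpExc.Zc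
  Cfsg.Agent.TO.X5 Cfsg.Agent.ChevalleyStructure.CoxeterGeom Cfsg.Agent.Tits.Roots Matrix Cfsg.Agent.KM.Tor

/-- a sublattice without `2`-torsion in the quotient -/
theorem sat_lat {R : Type} [Fintype R] [DecidableEq R] (L : Submodule ℤ (R → ℤ))
    (h : ∀ x, (2 : ℤ) • x ∈ L → x ∈ L) (j : ℕ) (u : R → ℤ) (hu : ∀ x ∈ L, (2 : ℤ) ^ j ∣ x ⬝ᵥ u) :
    ∃ v, ∀ x ∈ L, x ⬝ᵥ (u + (2 : ℤ) ^ j • v) = 0 := by
  obtain ⟨n, bM, bN, f, a, hs⟩ := L.smithNormalForm (Pi.basisFun ℤ R)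
  let g : (R → ℤ) →ₗ[ℤ] ℤ := bM.constr ℤ fun i => -((bM i ⬝ᵥ u) / 2 ^ j)
  have hg : ∀ x, x ⬝ᵥ (fun r => g (Pi.single r 1)) = g x := fun x => by
    conv_rhs => rw [pi_eq_sum_univ' x, map_sum]
    exact Finset.sum_congr rfl fun r _ => by rw [map_smul, smul_eq_mul]
  have h1 : ∀ i, (2 : ℤ) ^ j ∣ bM (f i) ⬝ᵥ u := fun i => by
    have h2 := hu _ (bN i).2
    rw [hs, smul_dotProduct, smul_eq_mul] at h2
    refine ((Int.prime_two.coprime_iff_not_dvd.2 ?_).pow_left (m := j)).dvd_of_dvd_mul_left h2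
    rintro ⟨c, hc⟩
    have h3 : (2 : ℤ) • c • bM (f i) = bN i := by rw [hs, hc, mul_smul]
    have h4 : bN i = (2 : ℤ) • (⟨_, h _ (h3 ▸ (bN i).2)⟩ : L) := Subtype.ext h3.symm
    have h5 := congrArg (fun y => bN.repr y i) h4
    simp only [map_smul, Module.Basis.repr_self, Finsupp.single_eq_same, Finsupp.smul_apply, smul_eq_mul] at h5
    omega
  refine ⟨fun r => g (Pi.single r 1), fun x hx => ?_⟩
  rw [show x = ∑ i, bN.repr ⟨x, hx⟩ i • (bN i : R → ℤ) by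
    simpa only [Submodule.coe_sum, Submodule.coe_smul] using congrArg Subtype.val (bN.sum_repr ⟨x, hx⟩).symm, sum_dotProduct]
  refine Finset.sum_eq_zero fun i _ => ?_
  rw [hs, smul_dotProduct, smul_dotProduct, dotProduct_add, dotProduct_smul, hg, Module.Basis.constr_basis, smul_eq_mul (2 ^ j : ℤ),
    mul_neg, Int.mul_ediv_cancel' (h1 i), add_neg_cancel, smul_zero, smul_zero]

variable {p : ℕ} [Fact p.Prime] {k : Type} [Field k] [CharP k p] {Y : Type} [Group Y] {N : Type} [Fintype N]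
  [DecidableEq N] {ρ : Y →* GL N k} {F : MulAut Y} {G : Subgroup Y} [IsAlgClosed k] {X : Datum p ρ F G}
  {a b : X.I → ℤ} {Ψ : Set (X.I → ℤ)}

theorem dot_cor (ha : X.Rt a) (b : X.I → ℤ) : X.wt b ⬝ᵥ X.cor a = cpr X.cs X.h b a := X.pair_cor ha b

theorem dot_self (ha : X.Rt a) : X.wt a ⬝ᵥ X.cor a = 2 := by rw [dot_cor ha, cpr_self _ _ ha]

theorem sl_bd (h : Tor.Sl X) (ha : X.Rt a) (hb : X.Rt b) (h1 : b ≠ a) (h2 : b ≠ -a) :
    -1 ≤ X.wt b ⬝ᵥ X.cor a ∧ X.wt b ⬝ᵥ X.cor a ≤ 1 := by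
  have := Base.cpr_mul_lt hb ha h1 h2
  rw [← dot_cor ha, ← dot_cor hb, h a b ha hb] at this
  constructor <;> nlinarith

theorem sl_lg (h : Tor.Sl X) (ha : X.Rt a) : Lg X a := ⟨ha, fun c hc h1 => by
  rw [← dot_cor ha]
  by_cases h2 : c = -a
  · rw [h2, map_neg, neg_dotProduct, dot_self ha]; omega
  · exact (sl_bd h ha hc h1 h2).2⟩

theorem sz_clo {Z : Set Y} (ha : a ∈ X.Sz Z) (hb : b ∈ X.Sz Z) : b - (X.wt b ⬝ᵥ X.cor a) • a ∈ X.Sz Z :=
  ⟨by
    rw [dot_cor ha.1, ← X.act_rf ha.1]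
    exact hb.1.act _, fun z hz => by
    rw [sub_eq_add_neg, X.χ_add, X.χ_neg, X.χ_zsmul, ha.2 z hz, hb.2 z hz, _root_.one_zpow, inv_one, one_mul]⟩

/-- **closed subsystems** -/
theorem sat_or (h : Tor.Sl X) (hr : ∀ a ∈ Ψ, X.Rt a) (hc : ∀ a ∈ Ψ, ∀ b ∈ Ψ, b - (X.wt b ⬝ᵥ X.cor a) • a ∈ Ψ) :
    Sat X Ψ ∨ ∃ s : Finset (X.I → ℤ), s.Nonempty ∧ (∀ a ∈ s, a ∈ Ψ) ∧
      (∀ a ∈ s, ∀ b ∈ s, a ≠ b → X.wt a ⬝ᵥ X.cor b = 0) ∧ ∀ r, 2 ∣ (∑ a ∈ s, X.wt a) r := by
  classical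
  refine or_iff_not_imp_right.2 fun hn j u hu => ?_
  let L := Submodule.span ℤ (X.wt '' Ψ)
  have hL : ∀ a ∈ Ψ, X.wt a ∈ L := fun a ha => Submodule.subset_span ⟨a, ha, rfl⟩
  have key : ∀ (n : ℕ) (s : Multiset (X.I → ℤ)), s.card = n → (∀ a ∈ s, a ∈ Ψ) → ∀ x, (2 : ℤ) • x = X.wt s.sum → x ∈ L := by
    intro n
    induction n using Nat.strong_induction_on with
    | _ n ih =>
    intro s hs h1 x hx
    by_cases h2 : ∃ a b t, s = a ::ₘ b ::ₘ t ∧ X.wt b ⬝ᵥ X.cor a ≠ 0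
    · obtain ⟨a, b, t, rfl, h2⟩ := h2
      have ha := h1 a (by simp)
      have hb := h1 b (by simp)
      have ht : ∀ c ∈ t, c ∈ Ψ := fun c hc => h1 c (by simp [hc])
      simp only [Multiset.card_cons, Multiset.sum_cons, map_add] at hs hx
      have red : ∀ (m : ℤ) (t' : Multiset (X.I → ℤ)), t'.card < n → (∀ c ∈ t', c ∈ Ψ) →
          a + (b + t.sum) = (2 * m) • a + t'.sum → x ∈ L := fun m t' e1 e2 e3 => by
        have e4 := ih _ e1 t' rfl e2 (x - m • X.wt a) (by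
          rw [smul_sub, hx, ← map_add, ← map_add, e3, map_add, map_zsmul, mul_smul, add_sub_cancel_left])
        simpa using add_mem e4 (L.smul_mem m (hL a ha))
      by_cases e1 : b = a
      · exact red 1 t (by omega) ht (by rw [e1, mul_one, two_zsmul, add_assoc])
      by_cases e2 : b = -a
      · exact red 0 t (by omega) ht (by rw [e2, mul_zero, zero_smul, zero_add, add_neg_cancel_left])
      have e3 := sl_bd h (hr a ha) (hr b hb) e1 e2
      have e4 : ∀ c ∈ (b - (X.wt b ⬝ᵥ X.cor a) • a) ::ₘ t, c ∈ Ψ := fun c e =>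
        (Multiset.mem_cons.1 e).elim (fun e => e ▸ hc a ha b hb) (ht c)
      rcases (by omega : X.wt b ⬝ᵥ X.cor a = 1 ∨ X.wt b ⬝ᵥ X.cor a = -1) with e | e
      · exact red 1 _ (by rw [Multiset.card_cons]; omega) e4 (by rw [Multiset.sum_cons, e]; module)
      · exact red 0 _ (by rw [Multiset.card_cons]; omega) e4 (by rw [Multiset.sum_cons, e]; module)
    · push Not at h2
      by_cases h0 : s = 0
      · rw [h0, Multiset.sum_zero, map_zero, smul_eq_zero] at hx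
        rw [hx.resolve_left two_ne_zero]
        exact zero_mem _
      have h3 : s.Nodup := Multiset.nodup_iff_ne_cons_cons.2 fun a t e => by
        have := h2 a a t e
        rw [dot_self (hr a (h1 a (by simp [e])))] at this
        omega
      refine absurd ⟨⟨s, h3⟩, Multiset.exists_mem_of_ne_zero h0, h1, fun a ha b hb e => ?_, fun r => ⟨x r, ?_⟩⟩ hn
      · obtain ⟨t, rfl⟩ := Multiset.exists_cons_of_mem (show b ∈ s from hb)
        obtain ⟨t, rfl⟩ := Multiset.exists_cons_of_mem ((Multiset.mem_cons.1 ha).resolve_left e)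
        exact h2 b a t rfl
      · rw [← map_sum, Finset.sum, Multiset.map_id', ← hx]
        rfl
  have hneg : ∀ a ∈ Ψ, -a ∈ Ψ := fun a ha => by
    have := hc a ha a ha
    rwa [dot_self (hr a ha), show a - (2 : ℤ) • a = -a by module] at this
  have rep : ∀ y ∈ L, ∃ s : Multiset (X.I → ℤ), (∀ a ∈ s, a ∈ Ψ) ∧ y = X.wt s.sum := fun y hy => by
    rw [← Submodule.mem_toAddSubgroup, Submodule.span_int_eq_addSubgroupClosure] at hy
    induction hy using AddSubgroup.closure_induction with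
    | mem _ e =>
      obtain ⟨a, ha, rfl⟩ := e
      exact ⟨{a}, by simpa using ha, by simp⟩
    | zero => exact ⟨0, by simp, by simp⟩
    | add _ _ _ _ e e' =>
      obtain ⟨s, e1, rfl⟩ := e
      obtain ⟨t, e2, rfl⟩ := e'
      exact ⟨s + t, fun a ha => (Multiset.mem_add.1 ha).elim (e1 a) (e2 a), by simp⟩
    | neg _ _ e =>
      obtain ⟨s, e1, rfl⟩ := e
      refine ⟨s.map Neg.neg, fun a ha => ?_, by rw [Multiset.sum_map_neg', map_neg]⟩
      obtain ⟨c, hc, rfl⟩ := Multiset.mem_map.1 ha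
      exact hneg c (e1 c hc)
  obtain ⟨v, hv⟩ := sat_lat L (fun x hx => let ⟨s, e1, e2⟩ := rep _ hx; key _ s rfl e1 x e2) j u fun x hx => by
    induction hx using Submodule.span_induction with
    | mem _ e =>
      obtain ⟨a, ha, rfl⟩ := e
      exact hu a ha
    | zero => rw [zero_dotProduct]; exact dvd_zero _
    | add _ _ _ _ e e' => rw [add_dotProduct]; exact dvd_add e e'
    | smul _ _ _ e => rw [smul_dotProduct]; exact e.mul_left _
  exact ⟨1, by omega, v, fun a ha => by rw [one_smul]; exact hv _ (hL a ha)⟩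

theorem Sl.tor (h : Sl X) : Tor.Sl X := fun a b ha hb => by
  rw [h.cor a ha, h.cor b hb]
  exact h.comm a b

/-- **[SAT]** -/
theorem boxSat : BoxSat := fun X h Ψ hc =>
  (sat_or h.tor hc.1 fun a ha b hb => by rw [h.cor a (hc.1 a ha)]; exact hc.2 a ha b hb).imp_right
    fun ⟨s, h1, h2, h3, h4⟩ => ⟨s, h1, h2, fun a ha b hb e => by
      rw [← h3 a ha b hb e, h.cor b (hc.1 b (h2 b hb))]; rfl, e2_iff.2 (by rwa [map_sum])⟩

end Cfsg.Agent.KM.Ev.Q2
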