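import Cfsg.Agent.KM.Ev.A1
import Cfsg.Agent.KM.Tor.One

/-!
# KM, `l = 2`, exceptional groups: involutions of the torus (helper73)

* `iw X x` : the involution with the exponent `x` modulo two; `Rc`, `Ro` : root type; `ro_iff`, `Rk.stable`;
* `toral_fin`, `pure_four`, `geo_all`, `geo_of`, `cc_sub`.
-/

set_option autoImplicit false
set_option linter.unusedSectionVars false

namespace Cfsg.Agent.KM.Ev

open Cfsg Subgroup Matrix Cfsg.Agent.DL Cfsg.Agent.Nodes.Reps Cfsg.Agent.Nodes.BNOf Cfsg.Agent.Nodes.Coroot Cfsg.Agent.BpExc.Zc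
  Cfsg.Agent.TO.X5 Cfsg.Agent.KM.Tor
open Cfsg.Agent.TO.X.Cn (Pi1 cl χ_exp mem_cen exists_cl cl_add cl_sr cl_smul cl_zero)

section Grp

variable {Y : Type} [Group Y]

theorem le_four {V : Set Y}
    (h : ∀ a ∈ V, ∀ b ∈ V, ∀ c ∈ V, a ≠ 1 → b ≠ 1 → b ≠ a → c = 1 ∨ c = a ∨ c = b ∨ c = a * b) : V.ncard ≤ 4 := by
  have key : ∀ a b : Y, V ⊆ {1, a, b, a * b} → V.ncard ≤ 4 := fun a b h1 =>
    (Set.ncard_le_ncard h1).trans ((Set.ncard_insert_le _ _).trans (Nat.succ_le_succ ((Set.ncard_insert_le _ _).trans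
      (Nat.succ_le_succ ((Set.ncard_insert_le _ _).trans (by rw [Set.ncard_singleton]))))))
  by_cases h1 : ∃ a ∈ V, ∃ b ∈ V, a ≠ 1 ∧ b ≠ 1 ∧ b ≠ a
  · obtain ⟨a, ha, b, hb, h1, h2, h3⟩ := h1
    exact key a b fun c hc => h a ha b hb c hc h1 h2 h3
  push Not at h1
  by_cases h2 : ∃ a ∈ V, a ≠ 1
  · obtain ⟨a, ha, h2⟩ := h2
    exact key a a fun c hc => (em (c = 1)).imp_right fun e => .inl (h1 a ha c hc h2 e)
  · push Not at h2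
    exact key 1 1 fun c hc => .inl (h2 c hc)

theorem cj_eq_one {g d : Y} : g⁻¹ * d * g = 1 ↔ d = 1 := by rw [← inv_inv g, inv_inv g⁻¹, conj_eq_one_iff]

theorem cj_mul' (g a b : Y) : g⁻¹ * (a * b) * g = g⁻¹ * a * g * (g⁻¹ * b * g) := by group

theorem cj_inj {g a b : Y} (h : g⁻¹ * a * g = g⁻¹ * b * g) : a = b := mul_left_cancel (mul_right_cancel h)

theorem Co.om_mul {H D : Subgroup Y} (h : Co H D) {a b : Y} (ha : a ∈ Om D) (hb : b ∈ Om D) : a * b ∈ Om D :=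
  ⟨mul_mem ha.1 hb.1, by rw [mul_assoc, ← mul_assoc b, h.ab b hb.1 a ha.1, mul_assoc, hb.2, mul_one, ha.2]⟩

theorem Co.om_fin {H D : Subgroup Y} (h : Co H D) : (Om D).Finite := h.fin.subset fun _ hd => hd.1

end Grp

/-- reduction modulo two -/
def c2 {R : Type} (u : R → ℤ) : R → ZMod 2 := fun i => (u i : ZMod 2)

theorem c2_val {R : Type} (x : R → ZMod 2) : c2 (fun i => ((x i).val : ℤ)) = x := funext fun i => by
  rw [c2, Int.cast_natCast, ZMod.natCast_zmod_val]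

theorem c2_add {R : Type} (u v : R → ℤ) : c2 (u + v) = c2 u + c2 v := funext fun _ => Int.cast_add _ _

theorem c2_eq {R : Type} {u v : R → ℤ} : c2 u = c2 v ↔ ∀ i, (2 : ℤ) ∣ v i - u i :=
  funext_iff.trans (forall_congr' fun i => ZMod.intCast_eq_intCast_iff_dvd_sub (u i) (v i) 2)

theorem c2_dot {R : Type} [Fintype R] (u v : R → ℤ) : c2 u ⬝ᵥ c2 v = 0 ↔ (2 : ℤ) ∣ u ⬝ᵥ v := by
  rw [show (2 : ℤ) = (2 : ℕ) from rfl, ← ZMod.intCast_zmod_eq_zero_iff_dvd, dotProduct, dotProduct, Int.cast_sum]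
  simp only [Int.cast_mul, c2]

variable {p : ℕ} [Fact p.Prime] {k : Type} [Field k] [CharP k p] {Y : Type} [Group Y] {N : Type} [Fintype N]
  [DecidableEq N] {ρ : Y →* GL N k} {F : MulAut Y} {G : Subgroup Y} [IsAlgClosed k] {X : Datum p ρ F G}
  {a b : X.I → ℤ} {D K : Subgroup Y} {t g y : Y} {x x' : X.R → ZMod 2} {Z : Set Y} {f : ℕ}

variable (X) in
/-- the involutions of the torus -/
noncomputable def iw (x : X.R → ZMod 2) : Y := X.τ (coch (fun i => ((x i).val : ℤ)) (-1))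

theorem iw_mem (x : X.R → ZMod 2) : iw X x ∈ X.T := X.τ_mem _

theorem coch_eq (hp : p ≠ 2) {u v : X.R → ℤ} : X.τ (coch u (-1)) = X.τ (coch v (-1)) ↔ c2 u = c2 v := by
  rw [X.τ_inj.eq_iff, c2_eq, funext_iff]
  refine forall_congr' fun i => ?_
  rw [coch_apply, coch_apply, eq_comm, ← mul_inv_eq_one, ← _root_.zpow_sub, ← orderOf_dvd_iff_zpow_eq_one, ord_neg hp]
  rfl

section

variable (hp : p ≠ 2)
include hp

theorem iw_c2 (u : X.R → ℤ) : iw X (c2 u) = X.τ (coch u (-1)) := (coch_eq hp).2 (c2_val _)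

theorem iw_inj (h : iw X x = iw X x') : x = x' := by rw [← c2_val x, (coch_eq hp).1 h, c2_val]

theorem iw_add (x x' : X.R → ZMod 2) : iw X (x + x') = iw X x * iw X x' := by
  conv_lhs => rw [← c2_val x, ← c2_val x', ← c2_add, iw_c2 hp, coch_add, map_mul]
  rfl

theorem iw_zero : iw X 0 = 1 := mul_left_cancel (a := iw X 0) (by rw [← iw_add hp, add_zero, mul_one])

theorem iw_sq (x : X.R → ZMod 2) : iw X x ^ 2 ^ 1 = 1 := by
  rw [pow_one, sq, ← iw_add hp, show x + x = 0 from funext fun i => CharTwo.add_self_eq_zero _, iw_zero hp]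

theorem exists_iw (ht : g⁻¹ * t * g ∈ X.T) (h : t * t = 1) : ∃ x, g⁻¹ * t * g = iw X x :=
  let ⟨u, hu⟩ := Ex.exists_coch (ord_neg hp) Nat.prime_two ht (conj_pow' ((sq t).trans h))
  ⟨c2 u, hu.trans (iw_c2 hp u).symm⟩

theorem ct_iw (a : X.I → ℤ) : ct X a (-1) = iw X (c2 (X.cor a)) := (iw_c2 hp _).symm

theorem χ_iw (a : X.I → ℤ) (x : X.R → ZMod 2) : X.χ a (iw X x) = 1 ↔ c2 (X.wt a) ⬝ᵥ x = 0 := by
  rw [iw, χ_exp, ord_neg hp, ← c2_val x, c2_dot, c2_val]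
  rfl

end

variable (X) in
/-- the classes of the long coroots -/
def Rc (x : X.R → ZMod 2) : Prop := ∃ a, Lg X a ∧ x = c2 (X.cor a)

variable (X) in
/-- of root type -/
def Ro (t : Y) : Prop := ∃ K, Rk X t K

variable (X) in
/-- the class determines the long root -/
def UQ : Prop := ∀ a b, Lg X a → Lg X b → c2 (X.cor a) = c2 (X.cor b) → b = a ∨ b = -a

theorem Ro.conj (h : Ro X t) (hg : g ∈ G) : Ro X (g * t * g⁻¹) :=
  let ⟨_, y, hy, a, h1, h2, _⟩ := h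
  ⟨_, g * y, mul_mem hg hy, a, h1, by rw [← h2]; group, rfl⟩

theorem step (hp : p ≠ 2) (hZ : Z ⊆ X.T) (hf : Z.Finite) (hy : y ∈ X.cen Z) {j : ℕ} (h : y ^ 2 ^ j = 1) :
    ∃ c ∈ G, c⁻¹ * y * c ∈ X.T ∧ ∀ z ∈ Z, c⁻¹ * z * c = z :=
  let ⟨c, hc, h1⟩ := toral_cen hZ hf hy (not_dvd_ord Nat.prime_two hp.symm h)
  ⟨c, X.cen_le_G _ hc, h1, fun z hz => by rw [mul_assoc, X.cen_le_centralizer hZ hc z hz, inv_mul_cancel_left]⟩

theorem tor_one (hp : p ≠ 2) (ht : t ∈ G) (h : t * t = 1) : ∃ g ∈ G, g⁻¹ * t * g ∈ X.T :=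
  let ⟨c, hc, h1, _⟩ := step hp (Set.empty_subset _) Set.finite_empty (cc_empty t ht fun _ h => h.elim) (j := 1)
    ((sq t).trans h)
  ⟨c, hc, h1⟩

/-- **the end of the toral case** -/
theorem toral_fin (hp : p ≠ 2) (hz : ZCs X 2) (H : Co (GF F G) D) (hg : g ∈ G) (h : ∀ d ∈ D, g⁻¹ * d * g ∈ X.T)
    (hq : QC X ((fun d => g⁻¹ * d * g) '' D)) : Ht.Toral X D := by
  obtain ⟨y, hy, hN, h1, h2⟩ := SB.Exc.Max.exists_conj_le_T X (Z := D) (fun z hz => (H.le hz).2.symm ▸ hz) hg h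
  refine ⟨y, hy, hN, ZCs.le (X := X.conj hy hN) Nat.prime_two hp.symm hz h1 H.pg (hq.imp fun v hv a ha => Iff.trans ?_ (hv a ha))⟩
  refine and_congr_right fun _ => Iff.trans (forall₂_congr fun d hd => ?_) Set.forall_mem_image.symm
  rw [← X.conj_χ hy hN a (h d hd), ← h2 d hd, show y * (y⁻¹ * d * y) * y⁻¹ = d by group]

theorem qc_of_empty (h : X.Sz Z = ∅) : QC X Z := lvs_of_cl (fun _ h => h.1) fun a ha =>
  absurd (((X.pair_cor ha.1 a).trans (cpr_self _ _ ha.1)).symm.trans (ha.2 (X.cor a) fun _ hb => (h ▸ hb :).elim)) two_ne_zero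

theorem cor_cl (ha : X.Rt a) : ∃ β, X.cor a = cl X β := by
  obtain ⟨w, i, rfl⟩ := ha
  obtain ⟨β, hβ⟩ := exists_cl X (X.cw i) w
  exact ⟨_, (X.cor_act_sr w i).trans (hβ.trans (by rw [← cl_sr, ← cl_add]))⟩

theorem sub_cor (hZ : Z ⊆ X.T) (hF : ∀ a ∈ X.Sz Z, X.g a ∈ X.Sz Z) {c : (X.sub hZ hF rfl).I → ℤ} (hc : (X.sub hZ hF rfl).Rt c) :
    (X.sub hZ hF rfl).cor c = X.cor (X.io Z c) := by
  have h6 := ((X.sub_rt hZ hF rfl).1 hc).1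
  obtain ⟨m, hm, -⟩ := (X.sub hZ hF rfl).exists_rp ((X.sub hZ hF rfl).rf c)
  have h7 := mon_inj (k := k) fun c => X.τ_inj
    (((X.sub hZ hF rfl).conj_τ hm c).symm.trans (X.conj_τ (X.rp_of_sub hZ hF rfl hm) c))
  rw [(X.sub hZ hF rfl).Wm_rf hc, X.subW_rf hZ hF rfl hc, X.Wm_rf h6] at h7
  exact X.eq_of_vecMulVec h6 (sub_right_injective h7)

theorem pi1_sub (hZ : Z ⊆ X.T) (hF : ∀ a ∈ X.Sz Z, X.g a ∈ X.Sz Z) (h : ∀ v, v ∈ AddSubgroup.closure (X.cor '' X.Sz Z)) :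
    Pi1 (X.sub hZ hF rfl) 1 := fun v _ _ _ h4 => by
  rw [Nat.cast_one, one_smul]
  clear h4
  induction h v using AddSubgroup.closure_induction with
  | mem _ hv =>
    obtain ⟨a, ha, rfl⟩ := hv
    obtain ⟨c, hc, rfl⟩ := (X.io_roots Z).ge ha
    exact (cor_cl (X := X.sub hZ hF rfl) hc).imp fun _ e => (sub_cor hZ hF hc).symm.trans e
  | zero => exact ⟨0, (cl_zero (X.sub hZ hF rfl)).symm⟩
  | add _ _ _ _ h5 h6 => exact h5.elim fun β e => h6.elim fun γ e' => ⟨β + γ, by rw [cl_add, e, e']⟩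
  | neg _ _ h5 => exact h5.elim fun β e => ⟨(-1 : ℤ) • β, by rw [cl_smul, e, neg_one_smul]⟩

/-- **centralisers in a centraliser whose coroots span the lattice** -/
theorem cc_sub {s : Y} (hs : s ∈ X.T) (hc : CC X {s}) (h : ∀ v, v ∈ AddSubgroup.closure (X.cor '' X.Sz {s})) (ht : t ∈ X.T) :
    CC X {t, s} := fun y hy h1 => by
  obtain ⟨m, hm, h3⟩ := X.amb.exists_pow_fix fun _ : Unit => s
  have hZ := Set.singleton_subset_iff.2 hs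
  have h5 := mem_cen (pi1_sub (X := X.pow hm) hZ (fun _ => (X.pow hm).g_mem_Sz hZ fun _ e => e ▸ h3 ()) h) ht
    (pow_orderOf_eq_one t) (Nat.coprime_one_right _) (hc y hy fun z e => h1 z (.inr e)) (h1 t (.inl rfl)).symm
  rwa [RL.sub_cen] at h5

variable (cz : CommZ X.cs X.h X.X) (hp : p ≠ 2)
include cz hp

theorem ro_iff (hg : g ∈ G) (e : g⁻¹ * t * g = iw X x) : Ro X t ↔ Rc X x :=
  ⟨fun ⟨_, h⟩ => (h.move cz hp hg (e ▸ iw_mem x)).imp fun a ha => ⟨ha.1, iw_inj hp (e.symm.trans (ha.2.1.trans (ct_iw hp a)))⟩,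
    fun ⟨a, h1, h2⟩ => ⟨_, g, hg, a, h1, by rw [e, h2, ct_iw hp], rfl⟩⟩

theorem Rk.stable (uq : UQ X) (hg : ∀ a, Lg X a → Lg X (X.g a)) (ht : t ∈ GF F G) (h : Rk X t K) : ∀ y ∈ K, F y ∈ K := by
  obtain ⟨g, h1, a, ha, h2, h3⟩ := id h
  have h4 : (F g)⁻¹ * t * F g = ct X (X.g a) (-1) := by
    rw [← (mem_GF.1 ht).2, ← map_inv, ← map_mul, ← map_mul, h2, F_ct ha.1,
      (((Fact.out : p.Prime).odd_of_ne_two hp).pow).neg_one_pow]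
  obtain ⟨b, hb, h5, h6⟩ := h.move cz hp (X.F_mem_G h1) (h4 ▸ ct_mem _ _)
  intro y hy
  rw [h6, mem_cj, ← map_inv, ← map_mul, ← map_mul]
  refine X.F_mem_S (TO.G2D.rt_pair ha.1) ?_ (mem_cj.1 (h3 ▸ hy))
  rcases uq _ _ hb (hg a ha) (iw_inj hp (by rw [← ct_iw hp, ← ct_iw hp, ← h4, h5])) with e | e
  · rintro _ (rfl | rfl)
    exacts [.inl e, .inr (by rw [X.g_neg ha.1, e]; rfl)]
  · rintro _ (rfl | rfl)
    exacts [.inr e, .inl (by rw [X.g_neg ha.1, e, neg_neg])]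

/-- **all involutions are of root type** -/
theorem geo_all (mc : MC X) (h : ∀ t ∈ GF F G, t * t = 1 → t ≠ 1 → ∃ K, Rk X t K ∧ ∀ y ∈ K, F y ∈ K)
    (h4 : {x | x = 0 ∨ Rc X x}.ncard ≤ 4) : Geo X := fun D H => by
  obtain ⟨g, -, P, h1, h2, -⟩ := tor_all cz hp mc H (R := Om D \ {1}) H.om_fin.sdiff fun t ht =>
    ⟨ht.1.1, ht.2, h t (H.le ht.1.1) ht.1.2 ht.2⟩
  refine .inr (.inl (le_trans (Set.ncard_le_ncard (t := (fun x => g * iw X x * g⁻¹) '' {x | x = 0 ∨ Rc X x}) fun d hd => ?_)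
    ((Set.ncard_image_le).trans h4)))
  by_cases e : d = 1
  · exact ⟨0, .inl rfl, by simp only [iw_zero hp, e, mul_one, mul_inv_cancel]⟩
  · obtain ⟨a, ha, h3⟩ := h2 d ⟨hd, e⟩
    exact ⟨_, .inr ⟨a, h1 a ha, rfl⟩, by simp only [← ct_iw hp, ← h3]; group⟩

variable (X) in
omit cz hp in
/-- pure subgroups have order at most four -/
def P3 : Prop := ∀ x y z : X.R → ZMod 2, ¬ Rc X x → ¬ Rc X y → ¬ Rc X (x + y) → x ≠ 0 → y ≠ 0 → y ≠ x → ¬ Rc X z →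
  ¬ Rc X (x + z) → ¬ Rc X (y + z) → ¬ Rc X (x + y + z) → z = 0 ∨ z = x ∨ z = y ∨ z = x + y

theorem pure_le (h3 : P3 X) {V : Set Y} (h1 : ∀ a ∈ V, a * a = 1 ∧ ¬ Ro X a) (h2 : ∀ a ∈ V, ∀ b ∈ V, a * b ∈ V)
    (h : ∀ a ∈ V, ∀ b ∈ V, ∀ c ∈ V, ∃ g ∈ G, g⁻¹ * a * g ∈ X.T ∧ g⁻¹ * b * g ∈ X.T ∧ g⁻¹ * c * g ∈ X.T) : V.ncard ≤ 4 := by
  refine le_four fun a ha b hb c hc a1 b1 b2 => ?_
  obtain ⟨g, hg, k1, k2, k3⟩ := h a ha b hb c hc
  obtain ⟨x, hx⟩ := exists_iw hp k1 (h1 a ha).1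
  obtain ⟨y, hy⟩ := exists_iw hp k2 (h1 b hb).1
  obtain ⟨z, hz⟩ := exists_iw hp k3 (h1 c hc).1
  have e : ∀ {d u}, d ∈ V → g⁻¹ * d * g = iw X u → ¬ Rc X u := fun hd e => (ro_iff cz hp hg e).not.1 (h1 _ hd).2
  have m : ∀ {d u d' u'}, g⁻¹ * d * g = iw X u → g⁻¹ * d' * g = iw X u' → g⁻¹ * (d * d') * g = iw X (u + u') :=
    fun e e' => by rw [cj_mul', e, e', iw_add hp]
  refine (h3 x y z (e ha hx) (e hb hy) (e (h2 a ha b hb) (m hx hy)) (fun e => a1 (cj_eq_one.1 (by rw [hx, e, iw_zero hp])))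
    (fun e => b1 (cj_eq_one.1 (by rw [hy, e, iw_zero hp]))) (fun e => b2 (cj_inj (by rw [hx, hy, e]))) (e hc hz)
    (e (h2 a ha c hc) (m hx hz)) (e (h2 b hb c hc) (m hy hz)) (e (h2 _ (h2 a ha b hb) c hc) (m (m hx hy) hz))).imp
    (fun e => cj_eq_one.1 (by rw [hz, e, iw_zero hp])) (Or.imp (fun e => cj_inj (by rw [hz, e, hx]))
      (Or.imp (fun e => cj_inj (by rw [hz, e, hy])) fun e => cj_inj (by rw [hz, e, m hx hy])))

omit cz in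
theorem tor_two (h : Pi1 X f) (hf : Nat.Coprime 2 f) (H : Co (GF F G) D) {a b : Y} (ha : a ∈ Om D) (hb : b ∈ Om D) :
    ∃ g ∈ G, g⁻¹ * a * g ∈ X.T ∧ g⁻¹ * b * g ∈ X.T := by
  obtain ⟨g, hg, k1⟩ := tor_one (X := X) hp (H.le ha.1).1 ha.2
  obtain ⟨u, hu, k2, k3⟩ := step hp (Set.singleton_subset_iff.2 k1) (Set.finite_singleton _)
    (mem_cen h k1 (conj_pow' ((sq a).trans ha.2)) hf (mul_mem (mul_mem (inv_mem hg) (H.le hb.1).1) hg)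
      (conj_comm (H.ab b hb.1 a ha.1))) (j := 1) (conj_pow' ((sq b).trans hb.2))
  exact ⟨_, mul_mem hg hu, by rwa [One.cj_two, k3 _ rfl], One.cj_two b g u ▸ k2⟩

/-- **no involution of root type** -/
theorem pure_four (h : Pi1 X f) (hf : Nat.Coprime 2 f) (h2 : ∀ x y, ¬ Rc X x → CC X {iw X y, iw X x}) (h3 : P3 X)
    (H : Co (GF F G) D) (h1 : ∀ d ∈ Om D, ¬ Ro X d) : (Om D).ncard ≤ 4 := by
  refine pure_le cz hp h3 (fun a ha => ⟨ha.2, h1 a ha⟩) (fun _ ha _ hb => H.om_mul ha hb) fun a ha b hb c hc => ?_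
  have e : ∀ g ∈ G, ∀ d ∈ Om D, g⁻¹ * d * g ∈ G ∧ (g⁻¹ * d * g) ^ 2 ^ 1 = 1 := fun g hg d hd =>
    ⟨mul_mem (mul_mem (inv_mem hg) (H.le hd.1).1) hg, conj_pow' ((sq d).trans hd.2)⟩
  obtain ⟨g, hg, k1, k2⟩ := tor_two hp h hf H ha hb
  obtain ⟨x, hx⟩ := exists_iw hp k1 ha.2
  obtain ⟨y, hy⟩ := exists_iw hp k2 hb.2
  obtain ⟨v, hv, k4, k5⟩ := step hp (Set.insert_subset (iw_mem y) (Set.singleton_subset_iff.2 (iw_mem x))) (Set.toFinite _)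
    (h2 x y ((ro_iff cz hp hg hx).not.1 (h1 a ha)) _ (e g hg c hc).1 (by
      rintro _ (rfl | rfl)
      exacts [hy ▸ conj_comm (H.ab b hb.1 c hc.1), hx ▸ conj_comm (H.ab a ha.1 c hc.1)])) (e g hg c hc).2
  refine ⟨g * v, mul_mem hg hv, ?_, ?_, One.cj_two c g v ▸ k4⟩
  · rw [One.cj_two, hx, k5 _ (.inr rfl)]; exact iw_mem x
  · rw [One.cj_two, hy, k5 _ (.inl rfl)]; exact iw_mem y

/-- **the reduction to groups with an involution of root type** -/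
theorem geo_of (h : Pi1 X f) (hf : Nat.Coprime 2 f) (uq : UQ X) (hg : ∀ a, Lg X a → Lg X (X.g a)) (h0 : ¬ Rc X 0)
    (h2 : ∀ x y, ¬ Rc X x → CC X {iw X y, iw X x}) (h3 : P3 X)
    (h4 : ∀ D, Co (GF F G) D → ∀ g ∈ G, ∀ P : Set (X.I → ℤ), P.Nonempty → (∀ a ∈ P, Lg X a) →
      (∃ r ∈ Om D, Ro X r) → (∀ t ∈ Om D, Ro X t → ∃ a ∈ P, g⁻¹ * t * g = ct X a (-1)) → (∀ d ∈ D, g⁻¹ * d * g ∈ Lp X P) →
      Ht.Toral X D ∨ ((Om D).ncard ≤ 8 ∧ ((∀ d ∈ Om D, d ≠ 1 → Ro X d) → (Om D).ncard ≤ 4))) : Geo X := fun D H => by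
  have h5 : ∀ d, Ro X d → d ≠ 1 := fun d hd e => h0 ((ro_iff cz hp (one_mem _) (by simp only [e, iw_zero hp, mul_one, inv_one])).1 hd)
  by_cases h6 : ∃ r ∈ Om D, Ro X r
  swap
  · exact .inr (.inl (pure_four cz hp h hf h2 h3 H fun d hd e => h6 ⟨d, hd, e⟩))
  obtain ⟨g, k0, P, k1, k2, k3⟩ := tor_all cz hp (mc_of h hf) H (R := {t ∈ Om D | Ro X t}) (H.om_fin.sep _) fun t ht =>
    ⟨ht.1.1, h5 t ht.2, ht.2.imp fun K hK => ⟨hK, hK.stable cz hp uq hg (H.le ht.1.1)⟩⟩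
  obtain ⟨r, r1, r2⟩ := id h6
  refine (h4 D H g k0 P ((k2 r ⟨r1, r2⟩).imp fun _ h => h.1) k1 h6 (fun t h1 h2 => k2 t ⟨h1, h2⟩) k3).imp_right fun ⟨k4, k5⟩ => ?_
  by_cases h7 : ∀ d ∈ Om D, d ≠ 1 → Ro X d
  · exact .inl (k5 h7)
  · push Not at h7
    obtain ⟨s, s1, s2, s3⟩ := h7
    exact .inr ⟨k4, r, r1, s, s1, h5 r r2, s2, fun y hy e => s3 (e ▸ r2.conj hy)⟩

end Cfsg.Agent.KM.Ev
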