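import Cfsg.Agent.KM.Tor.Cnt
import Cfsg.Agent.KM.Two.Base
import Cfsg.Agent.KM.Sp.Loc
import Cfsg.Agent.KM.Sc.E0
import Cfsg.Agent.GH.EFrameAct
import Cfsg.Agent.S3739

/-!
# KM, `l = 2`, exceptional groups: the block theoretic part (helper73)

* `Om D` : the elements of order at most two; `Sm G D` : at most four of them, or eight which are not all fused;
* `Co H D` : the local data of an abelian defect group; `Geo X` : toral or small;
* `hz_sm`, `co_of_loc`, `Geo.torB`, `Geo.torImB`.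
-/

set_option autoImplicit false
set_option linter.unusedSectionVars false

namespace Cfsg.Agent.KM.Ev

open Cfsg Subgroup Cfsg.Agent.DL Cfsg.Agent.TO Cfsg.Agent.TO.Cn

section Grp

variable {Y : Type} [Group Y]

/-- the elements of order at most two -/
def Om (D : Subgroup Y) : Set Y := {d | d ∈ D ∧ d * d = 1}

/-- few involutions -/
def Sm (G D : Subgroup Y) : Prop := (Om D).ncard ≤ 4 ∨
  ((Om D).ncard ≤ 8 ∧ ∃ r ∈ Om D, ∃ s ∈ Om D, r ≠ 1 ∧ s ≠ 1 ∧ ∀ g ∈ G, g * r * g⁻¹ ≠ s)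

/-- the local data -/
structure Co (H D : Subgroup Y) : Prop where
  fin : (D : Set Y).Finite
  le : D ≤ H
  pg : ∀ d ∈ D, ∃ j : ℕ, d ^ 2 ^ j = 1
  ab : ∀ a ∈ D, ∀ b ∈ D, a * b = b * a
  core : ∀ U : Subgroup Y, U ≤ H → (∀ u ∈ U, ∃ j : ℕ, u ^ 2 ^ j = 1) →
    (∀ x ∈ H, (∀ d ∈ D, d * x = x * d) → ∀ u ∈ U, x * u * x⁻¹ ∈ U) → U ≤ D

theorem co_of_loc {S : Type} [Group S] [Finite S] {ι : S →* Y} (hι : Function.Injective ι) {H : Subgroup Y}
    (h1 : ∀ s, ι s ∈ H) (h2 : ∀ y ∈ H, (∃ j : ℕ, y ^ 2 ^ j = 1) → y ∈ ι.range) {D : Subgroup S} (h : Sp.LocA 2 D) :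
    Co H (D.map ι) where
  fin := (Set.toFinite (D : Set S)).image _
  le := fun _ ⟨s, _, e⟩ => e ▸ h1 s
  pg := fun _ ⟨_, hs, e⟩ => (h.pelt hs).imp fun _ hj => by rw [← e, ← map_pow, hj, map_one]
  ab := fun _ ⟨a, ha, e⟩ _ ⟨b, hb, e'⟩ => by rw [← e, ← e', ← map_mul, (h.ab a ha b hb).eq, map_mul]
  core U k1 k2 k3 u hu := by
    obtain ⟨s, rfl⟩ := h2 u (k1 hu) (k2 u hu)
    refine ⟨s, h.core (U.comap ι) (fun x => (k2 _ x.2).imp fun j hj => Subtype.ext (hι ?_)) (fun x hx v hv => ?_) hu, rfl⟩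
    · rw [coe_pow, map_pow, hj, coe_one, map_one]
    · rw [mem_comap, map_mul, map_mul, map_inv]
      exact k3 _ (h1 x) (fun _ ⟨d, hd, e⟩ => by rw [← e, ← map_mul, (hx d hd).eq, map_mul]) _ hv

/-- **few involutions** -/
theorem hz_sm {K : Type} [Group K] [Finite K] {G : Subgroup Y} {j : K →* Y} {M : Ideal AlgInt} {B : Set (IrrCharacter K)}
    {D : Subgroup K} (hM : IsPModular 2 M) (hB : IsPBlock M B) (hD : IsDefectGroup 2 M B D) (hab : IsMulCommutative D)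
    (h1 : ∀ x, j x ∈ G) (h2 : ∀ d ∈ D, j d = 1 → d = 1) (h : Sm G (D.map j)) : BK.HZ 2 B := by
  have hc : ∀ a ∈ D, ∀ b ∈ D, a * b = b * a := fun a ha b hb => congrArg Subtype.val (hab.1.1 ⟨a, ha⟩ ⟨b, hb⟩)
  obtain ⟨θ, H⟩ := boxCAN0 K 2 M B D hM hB hD fun a ha b hb => hc b hb a ha
  let V : Subgroup K :=
    { carrier := Om D
      one_mem' := ⟨one_mem _, mul_one _⟩
      mul_mem' := fun {a b} ha hb => ⟨mul_mem ha.1 hb.1, by
        rw [mul_assoc, ← mul_assoc b, hc b hb.1 a ha.1, mul_assoc, hb.2, mul_one, ha.2]⟩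
      inv_mem' := fun ha => ⟨inv_mem ha.1, by rw [← mul_inv_rev, ha.2, inv_one]⟩ }
  have e1 : Om (D.map j) = j '' V := Set.ext fun y => ⟨fun ⟨⟨d, hd, e⟩, h3⟩ =>
    ⟨d, ⟨hd, h2 _ (mul_mem hd hd) (by rw [map_mul, e, h3])⟩, e⟩,
    fun ⟨d, hd, e⟩ => ⟨⟨d, hd.1, e⟩, by rw [← e, ← map_mul, hd.2, map_one]⟩⟩
  have e2 : (Om (D.map j)).ncard = Nat.card V := by
    rw [e1, Set.InjOn.ncard_image fun a ha b hb e => mul_inv_eq_one.1 (h2 _ (mul_mem ha.1 (inv_mem hb.1)) (by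
      rw [map_mul, map_inv, e, mul_inv_cancel]))]
    rfl
  have hN : In D θ ≤ normalizer (V : Set K) := fun t ht => mem_normalizer_iff.2 fun y =>
    and_congr ((mem_In.1 ht).1 y).symm (by rw [conj_mul, conj_eq_one_iff])
  obtain ⟨ρ, hρ⟩ : ∃ ρ : In D θ →* MulAut V, ∀ (t : In D θ) (d : V), (ρ t d : K) = t * d * (t : K)⁻¹ :=
    ⟨V.normalizerMonoidHom.comp (inclusion hN), fun _ _ => rfl⟩
  have hn : ((Ce D).subgroupOf (In D θ)).Normal := ⟨fun c hc t d hd => by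
    have h3 := hc _ (((mem_In.1 t⁻¹.2).1 d).2 hd)
    simp only [coe_mul, coe_inv, coe_subtype, inv_inv] at h3 ⊢
    calc _ = t * ((t : K)⁻¹ * d * t * c) * (t : K)⁻¹ := by group
      _ = _ := by rw [h3]; group⟩
  have hk : ρ.ker = (Ce D).subgroupOf (In D θ) := Subgroup.ext fun t => by
    rw [MonoidHom.mem_ker]
    refine ⟨fun e d hd => ?_, fun e => MulEquiv.ext fun d => Subtype.ext ?_⟩
    · obtain ⟨i, hi⟩ := H.pg ⟨d, hd⟩
      refine (mul_inv_eq_iff_eq_mul.1 (Two.fix_of_omega (Z := D) (t := t) hc (fun x hx => ((mem_In.1 t.2).1 x).2 hx) H.idx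
        (fun x hx => (pow_index_mem (H := (Ce D).subgroupOf (In D θ)) t x hx).symm) (fun x hx h3 => ?_) i d hd
        (congrArg Subtype.val hi))).symm
      rw [← hρ t ⟨x, hx, h3⟩, e]
      rfl
    · rw [hρ, ← show (d : K) * t = t * d from e d d.2.1, mul_inv_cancel_right]
      rfl
  have h3 : (Ce D).relIndex (In D θ) = Nat.card ρ.range := by rw [← index_ker, hk]; rfl
  have h4 := card_subgroup_dvd_card ρ.range
  have h5 := H.idx
  refine Tor.hz_of_le H ?_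
  rw [h3] at h5 ⊢
  by_cases h6 : Nat.card V ≤ 4
  · have h7 := h4.trans (S3739.card_mulAut_dvd_six h6)
    have := Nat.le_of_dvd (by decide) h7
    interval_cases Nat.card ρ.range <;> omega
  obtain ⟨h7, r, hr, s, hs, r1, s1, h8⟩ := h.resolve_left (e2 ▸ h6)
  rw [e1] at hr hs
  obtain ⟨r, hr, rfl⟩ := hr
  obtain ⟨s, hs, rfl⟩ := hs
  have hsq : ∀ v : V, v ^ 2 = 1 := fun v => Subtype.ext ((sq (v : K)).trans v.2.2)
  obtain ⟨m, hm⟩ := IsPGroup.iff_card.1 (show IsPGroup 2 V from fun v => ⟨1, hsq v⟩)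
  have h9 : Nat.card V = 8 := by
    rw [e2, hm] at h7
    rw [hm] at h6 ⊢
    have : m < 4 := (Nat.pow_lt_pow_iff_right one_lt_two).1 (by omega)
    interval_cases m <;> omega
  let _ : CommGroup V := { (inferInstance : Group V) with mul_comm := fun x y => Subtype.ext (hc _ x.2.1 _ y.2.1) }
  rw [GH.EFrameAct.card_mulAut_eight hsq h9] at h4
  by_cases h10 : 7 ∣ Nat.card ρ.range
  · have : Fact (Nat.Prime 7) := ⟨by decide⟩
    obtain ⟨⟨_, t, rfl⟩, ht⟩ := exists_prime_orderOf_dvd_card' 7 h10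
    obtain ⟨n, hn⟩ := GH.EFrameAct.exists_pow h9 ((orderOf_coe _).trans ht) (a := ⟨r, hr⟩) (b := ⟨s, hs⟩)
      (fun e => r1 (by rw [show r = 1 from congrArg Subtype.val e, map_one]))
      fun e => s1 (by rw [show s = 1 from congrArg Subtype.val e, map_one])
    refine (h8 _ (h1 (t ^ n : In D θ)) ?_).elim
    rw [← map_inv, ← map_mul, ← map_mul, ← hρ _ ⟨r, hr⟩, map_pow, hn]
  · have h11 : Nat.card ρ.range ∣ 3 := ((Nat.Prime.coprime_iff_not_dvd (by decide)).2 h10).symm.dvd_of_dvd_mul_left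
      (((Nat.prime_two.coprime_iff_not_dvd.2 h5).pow_left 3).symm.dvd_of_dvd_mul_left h4)
    exact (Nat.le_of_dvd (by decide) h11).trans (by decide)

end Grp

variable {p : ℕ} [Fact p.Prime] {k : Type} [Field k] [CharP k p] {Y : Type} [Group Y] {N : Type} [Fintype N]
  [DecidableEq N] {ρ : Y →* GL N k} {F : MulAut Y} {G : Subgroup Y} [IsAlgClosed k] {X : Datum p ρ F G}

variable (X) in
/-- toral, or few involutions -/
def Geo : Prop := ∀ D : Subgroup Y, Co (GF F G) D → Ht.Toral X D ∨ Sm G D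

theorem Geo.torB (h : Geo X) : Ex.TorB X 2 := fun _ _ _ hM hB hD hab _ _ =>
  have := X.amb.finite_GF G
  (h _ (co_of_loc (GF F G).subtype_injective (fun s => s.2) (fun y hy _ => ⟨⟨y, hy⟩, rfl⟩)
    (Sp.locA_of_block hM hB hD hab))).imp_right
    (hz_sm hM hB hD hab (fun x => x.2.1) fun _ _ e => Subtype.ext e)

theorem Geo.torImB (h : Geo X) {S : Type} [Group S] {T : Subgroup Y} {ι : S →* Y} {d : ℕ} (O : Ex.Over F G T ι d)
    (hd : ¬ 2 ∣ d) : Sc.TorImB 2 X ι := fun K _ _ σ M B D H _ _ => by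
  have := Finite.of_surjective σ H.surj
  have h1 := Sp.locA_of_block H.hM H.hB H.hD H.ab
  have h2 := h _ (co_of_loc O.inj O.mem (fun y hy ⟨j, hj⟩ => by
    obtain ⟨m, hm⟩ := exists_pow_eq_self_of_coprime (x := y) (n := d)
      (((Nat.prime_two.coprime_iff_not_dvd.2 hd).pow_left j).symm.coprime_dvd_right (orderOf_dvd_of_pow_eq_one hj))
    exact hm ▸ pow_mem (O.mem_range.1 (O.pow_mem ⟨y, hy⟩)) m) (h1.quot σ H.surj H.ker.le))
  rw [map_map] at h2
  refine h2.imp_right (hz_sm H.hM H.hB H.hD H.ab (fun x => (O.mem _).1) fun x hx e => ?_)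
  obtain ⟨j, hj⟩ := h1.pelt hx
  have h3 : x ∈ center K := H.ker ▸ O.inj (e.trans ι.map_one.symm)
  exact orderOf_eq_one_iff.1 (Nat.eq_one_of_dvd_coprimes ((Nat.prime_two.coprime_iff_not_dvd.2 H.zp).pow_left j)
    (orderOf_dvd_of_pow_eq_one hj) (orderOf_dvd_natCard _ h3))

end Cfsg.Agent.KM.Ev
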