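import Cfsg.Agent.KM.Ev.Q2

/-!
# KM, `l = 2`, simply laced types: orthogonal roots, counting, independent involutions (helper27)

* `Un.conj`, `Or2.four`, `dual1`, `dual2`, `dual3`; `Kt X A` (the involutions of `T` killed by `A`), `Kt.dbl`, `Kt.empty`;
* `Tri D r s u`, `exists_tri`, `Tri.not_all`; `toral_of` (a toral subgroup with a saturated subsystem).
-/

set_option autoImplicit false
set_option linter.unusedSectionVars false

namespace Cfsg.Agent.KM.Ev.Q2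

open Cfsg Subgroup Cfsg.Agent.DL Cfsg.Agent.Nodes.Reps Cfsg.Agent.Nodes.BNOf Cfsg.Agent.Nodes.Coroot Cfsg.Agent.BpExc.Zc
  Cfsg.Agent.TO.X5 Cfsg.Agent.ChevalleyStructure.CoxeterGeom Cfsg.Agent.Tits.Roots Matrix Cfsg.Agent.KM.Tor
open Cfsg.Agent.TO.X.Cn (cl cl_add cl_smul cl_zero Pi1 exists_exp χ_exp)
open Cfsg.Agent.KM.Ht (Z0 mem_Z0 Z0_le_T cen_comm_Z0)

section Grp

variable {Y : Type} [Group Y] {D : Subgroup Y} {r s u : Y}

/-- three independent involutions -/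
structure Tri (D : Subgroup Y) (r s u : Y) : Prop where
  mr : r ∈ Om D
  ms : s ∈ Om D
  mu : u ∈ Om D
  ne : r ≠ 1 ∧ s ≠ 1 ∧ r * s ≠ 1 ∧ u ≠ 1 ∧ r * u ≠ 1 ∧ s * u ≠ 1 ∧ r * s * u ≠ 1

theorem om_mul (h : ∀ a ∈ D, ∀ b ∈ D, a * b = b * a) (hr : r ∈ Om D) (hs : s ∈ Om D) : r * s ∈ Om D :=
  ⟨mul_mem hr.1 hs.1, by rw [mul_assoc, ← mul_assoc s, h s hs.1 r hr.1, mul_assoc, hs.2, mul_one, hr.2]⟩

theorem om_ne (hr : r ∈ Om D) (h : s ≠ r) : r * s ≠ 1 := fun e => h (mul_left_cancel (e.trans hr.2.symm))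

theorem exists_tri (h : ∀ a ∈ D, ∀ b ∈ D, a * b = b * a) (h4 : 4 < (Om D).ncard) : ∃ r s u, Tri D r s u := by
  have e : ∀ a b c d : Y, ∃ x ∈ Om D, x ≠ a ∧ x ≠ b ∧ x ≠ c ∧ x ≠ d := fun a b c d => by
    obtain ⟨x, hx, h1⟩ := Set.exists_mem_notMem_of_ncard_lt_ncard (s := {a, b, c, d}) (lt_of_le_of_lt (by
      refine (Set.ncard_insert_le _ _).trans (Nat.succ_le_succ ((Set.ncard_insert_le _ _).trans (Nat.succ_le_succ ?_)))
      exact (Set.ncard_insert_le _ _).trans (by rw [Set.ncard_singleton])) h4)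
    exact ⟨x, hx, by simpa only [Set.mem_insert_iff, Set.mem_singleton_iff, not_or] using h1⟩
  obtain ⟨r, hr, r1, -⟩ := e 1 1 1 1
  obtain ⟨s, hs, s1, s2, -⟩ := e 1 r 1 1
  obtain ⟨u, hu, u1, u2, u3, u4⟩ := e 1 r s (r * s)
  exact ⟨r, s, u, hr, hs, hu, r1, s1, om_ne hr s2, u1, om_ne hr u2, om_ne hs u3, om_ne (om_mul h hr hs) u4⟩

end Grp

variable {p : ℕ} [Fact p.Prime] {k : Type} [Field k] [CharP k p] {Y : Type} [Group Y] {N : Type} [Fintype N]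
  [DecidableEq N] {ρ : Y →* GL N k} {F : MulAut Y} {G : Subgroup Y} [IsAlgClosed k] {X : Datum p ρ F G}
  {a b c x y z : X.I → ℤ} {t g : Y} {K D : Subgroup Y} {Z : Set Y} {Ψ A : Set (X.I → ℤ)}

theorem Sl.conj (h : Sl X) (hg : g ∈ G) (hN : g⁻¹ * F g ∈ X.NN) : Sl (X.conj hg hN) :=
  ⟨h.comm, fun a ha => (show (X.conj hg hN).cor a = X.cor a by
    unfold Datum.cor
    rw [show (X.conj hg hN).Wm = X.Wm from funext (TO.E6.conj_Wm X hg hN)]).trans (h.cor a ha)⟩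

theorem Un.conj (h : Un X) (hg : g ∈ G) (hN : g⁻¹ * F g ∈ X.NN) : Un (X.conj hg hN) :=
  ⟨h.toSl.conj hg hN, h.even, h.surj, h.nd, h.rt⟩

theorem S6.conj (h : S6 X) (hg : g ∈ G) (hN : g⁻¹ * F g ∈ X.NN) : S6 (X.conj hg hN) :=
  ⟨h.toUn.conj hg hN, h.card, h.sing, h.wit⟩

theorem B_zero_left (x : X.I → ℤ) : B X 0 x = 0 := by rw [B, map_zero, zero_dotProduct]

theorem B_zero_right (x : X.I → ℤ) : B X x 0 = 0 := by rw [B, cl_zero, dotProduct_zero]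

theorem Sl.sum (h : Sl X) {s : Finset (X.I → ℤ)} (h1 : ∀ a ∈ s, X.Rt a) (h2 : ∀ a ∈ s, ∀ b ∈ s, a ≠ b → B X a b = 0) :
    B X (∑ a ∈ s, a) (∑ a ∈ s, a) = 2 * s.card ∧ ∀ c, (∀ a ∈ s, B X c a = 0) → B X c (∑ a ∈ s, a) = 0 := by
  classical
  induction s using Finset.induction_on with
  | empty => exact ⟨B_zero_left _, fun _ _ => B_zero_right _⟩
  | insert a s ha ih =>
    obtain ⟨h3, h4⟩ := ih (fun b hb => h1 b (Finset.mem_insert_of_mem hb))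
      fun b hb c hc => h2 b (Finset.mem_insert_of_mem hb) c (Finset.mem_insert_of_mem hc)
    rw [Finset.sum_insert ha, Finset.card_insert_of_notMem ha]
    refine ⟨?_, fun c hc => by
      rw [B_add_right, hc a (Finset.mem_insert_self ..), h4 c fun b hb => hc b (Finset.mem_insert_of_mem hb), add_zero]⟩
    rw [h.sq, h3, h.self (h1 a (Finset.mem_insert_self ..)), h4 a fun b hb =>
      h2 a (Finset.mem_insert_self ..) b (Finset.mem_insert_of_mem hb) fun e => ha (e ▸ hb)]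
    push_cast
    ring

theorem Un.e2_wt (h : Un X) (e : E2 (X.wt x)) : E2 x := h.nd x fun y =>
  let ⟨v, hv⟩ := e
  ⟨v ⬝ᵥ cl X y, by rw [B, hv, smul_dotProduct]; rfl⟩

/-- the number of the orthogonal roots is divisible by four -/
theorem Or2.card (h : Un X) (hΨ : ∀ a ∈ Ψ, X.Rt a) (o : Or2 X Ψ) : ∃ s : Finset (X.I → ℤ), s.Nonempty ∧ 4 ∣ s.card ∧
    (∀ a ∈ s, a ∈ Ψ) ∧ (∀ a ∈ s, ∀ b ∈ s, a ≠ b → B X a b = 0) ∧ E2 (∑ a ∈ s, a) := by
  obtain ⟨s, h0, h1, h2, h3⟩ := o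
  have h4 := h.four (h.e2_wt h3)
  rw [(h.sum (fun a ha => hΨ a (h1 a ha)) h2).1] at h4
  exact ⟨s, h0, by omega, h1, h2, h.e2_wt h3⟩

theorem Or2.four (h : Un X) (hΨ : ∀ a ∈ Ψ, X.Rt a) (o : Or2 X Ψ) : ∃ a ∈ Ψ, ∃ b ∈ Ψ, ∃ c ∈ Ψ, ∃ d ∈ Ψ,
    B X a b = 0 ∧ B X a c = 0 ∧ B X a d = 0 ∧ B X b c = 0 ∧ B X b d = 0 ∧ B X c d = 0 := by
  obtain ⟨s, h0, h1, h2, h3, -⟩ := o.card h hΨ
  obtain ⟨a, ha, b, hb, c, hc, d, hd, e1, e2, e3, e4, e5, e6⟩ := Finset.three_lt_card.1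
    (show 3 < s.card by have := h0.card_pos; omega)
  exact ⟨a, h2 a ha, b, h2 b hb, c, h2 c hc, d, h2 d hd, h3 _ ha _ hb e1, h3 _ ha _ hc e2, h3 _ ha _ hd e3, h3 _ hb _ hc e4,
    h3 _ hb _ hd e5, h3 _ hc _ hd e6⟩

theorem dual1 (h : Un X) (ha : ¬ E2 a) : ∃ x, ¬ 2 ∣ B X a x := not_forall.1 fun e => ha (h.nd a e)

theorem e2_par {ι : Type} {a b : ι → ℤ} {m : ℤ} (h : E2 (b + m • a)) : E2 b ∨ E2 (a + b) := by
  obtain ⟨v, hv⟩ := h
  obtain ⟨n, rfl | rfl⟩ := Int.even_or_odd' m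
  · exact .inl ⟨v - n • a, by rw [smul_sub, ← hv]; module⟩
  · exact .inr ⟨v - n • a, by rw [smul_sub, ← hv]; module⟩

theorem dual2 (h : Un X) (ha : ¬ E2 a) (hb : ¬ E2 b) (hab : ¬ E2 (a + b)) : ∃ y, 2 ∣ B X a y ∧ ¬ 2 ∣ B X b y := by
  by_contra H
  push Not at H
  obtain ⟨x, hx⟩ := dual1 h ha
  refine (e2_par (h.nd (b + B X b x • a) fun y => ?_)).elim hb hab
  have := H (y + B X a y • x) (by
    rw [B_add_right, B_smul_right, ← mul_one_add]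
    exact Dvd.dvd.mul_left (by omega) _)
  rwa [B_add_right, B_smul_right, mul_comm, ← B_smul_left, ← B_add_left] at this

theorem dual3 (h : Un X) (ha : ¬ E2 a) (hb : ¬ E2 b) (hab : ¬ E2 (a + b)) (hc : ¬ E2 c) (hac : ¬ E2 (a + c))
    (hbc : ¬ E2 (b + c)) (habc : ¬ E2 (a + b + c)) : ∃ z, 2 ∣ B X a z ∧ 2 ∣ B X b z ∧ ¬ 2 ∣ B X c z := by
  by_contra H
  push Not at H
  obtain ⟨y, h1, h2⟩ := dual2 h ha hb hab
  obtain ⟨x, h3, h4⟩ := dual2 h hb ha (add_comm a b ▸ hab)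
  have e : E2 (c + B X c x • a + B X c y • b) := h.nd _ fun z => by
    have := H (z + B X a z • x + B X b z • y) (by
      rw [B_add_right, B_add_right, B_smul_right, B_smul_right, ← mul_one_add]
      exact dvd_add (Dvd.dvd.mul_left (by omega) _) (h1.mul_left _)) (by
      rw [B_add_right, B_add_right, B_smul_right, B_smul_right, add_right_comm, ← mul_one_add]
      exact dvd_add (Dvd.dvd.mul_left (by omega) _) (h3.mul_left _))
    rwa [B_add_right, B_add_right, B_smul_right, B_smul_right, mul_comm, mul_comm (B X b z), ← B_smul_left, ← B_smul_left,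
      ← B_add_left, ← B_add_left] at this
  rcases e2_par e with e | e
  · exact (e2_par e).elim hc hac
  · rw [← add_assoc] at e
    exact (e2_par e).elim hbc (add_assoc a b c ▸ habc)

variable (X) in
/-- the involutions of the torus in the kernels of the roots of `A` -/
def Kt (A : Set (X.I → ℤ)) : Set Y := {t | t ∈ X.T ∧ t * t = 1 ∧ ∀ a ∈ A, X.χ a t = 1}

theorem Kt.sub (h : Un X) (A : Set (X.I → ℤ)) : Kt X A ⊆ Set.range fun x : X.I → Fin 2 => tw X fun i => (x i : ℕ) :=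
  fun t ht => by
    obtain ⟨x, rfl⟩ := h.exists_tw ht.1 ht.2.1
    refine ⟨fun i => ⟨(x i % 2).toNat, by omega⟩, tw_congr (e2_iff.2 fun i => ?_)⟩
    show (2 : ℤ) ∣ ((x i % 2).toNat : ℕ) - x i
    omega

theorem Kt.fin (h : Un X) (A : Set (X.I → ℤ)) : (Kt X A).Finite := (Set.finite_range _).subset (Kt.sub h A)

theorem Kt.empty (h : Un X) (A : Set (X.I → ℤ)) : (Kt X A).ncard ≤ 2 ^ Nat.card X.I := by
  refine (Set.ncard_le_ncard (Kt.sub h A) (Set.finite_range _)).trans ?_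
  rw [← Set.image_univ]
  refine (Set.ncard_image_le).trans_eq ?_
  rw [Set.ncard_univ, Nat.card_fun, Nat.card_eq_fintype_card (α := Fin 2), Fintype.card_fin]

theorem Kt.dbl (hp : p ≠ 2) (h : Un X) (h1 : ∀ a ∈ A, 2 ∣ B X a x) (h2 : ¬ 2 ∣ B X c x) :
    2 * (Kt X (insert c A)).ncard ≤ (Kt X A).ncard := by
  have h3 := Kt.fin h (insert c A)
  rw [two_mul]
  nth_rw 2 [← Set.ncard_image_of_injective _ (mul_right_injective (tw X x))]
  rw [← Set.ncard_union_eq (Set.disjoint_left.2 ?_) h3 (h3.image _)]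
  · refine Set.ncard_le_ncard (Set.union_subset (fun t ht => ⟨ht.1, ht.2.1, fun a ha => ht.2.2 a (.inr ha)⟩) ?_) (Kt.fin h A)
    rintro _ ⟨t, ht, rfl⟩
    refine ⟨mul_mem (tw_mem x) ht.1, ?_, fun a ha => ?_⟩
    · show tw X x * t * (tw X x * t) = 1
      rw [mul_assoc, ← mul_assoc t, X.T_comm ht.1 (tw_mem x), mul_assoc, ht.2.1, mul_one, tw_sq]
    · show X.χ a (tw X x * t) = 1
      rw [X.χ_mul a (tw_mem x) ht.1, (χ_tw hp a x).2 (h1 a ha), ht.2.2 a (.inr ha), one_mul]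
  · rintro _ hs ⟨t, ht, rfl⟩
    have h4 : X.χ c (tw X x * t) = 1 := hs.2.2 c (.inl rfl)
    rw [X.χ_mul c (tw_mem x) ht.1, ht.2.2 c (.inl rfl), mul_one] at h4
    exact h2 ((χ_tw hp c x).1 h4)

/-- three orthogonal roots -/
theorem Kt.three (hp : p ≠ 2) (h : Un X) (ha : X.Rt a) (hb : X.Rt b) (hc : X.Rt c) (ab : B X a b = 0) (ac : B X a c = 0)
    (bc : B X b c = 0) : 8 * (Kt X {c, b, a}).ncard ≤ 2 ^ Nat.card X.I := by
  have e : ∀ {a b}, X.Rt a → X.Rt b → B X a b = 0 → ¬ E2 (a + b) := fun ha hb h0 e => by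
    have := h.four e
    rw [h.sq, h.self ha, h.self hb, h0] at this
    omega
  obtain ⟨x, h1⟩ := dual1 h (h.not_e2 ha)
  obtain ⟨y, h2, h3⟩ := dual2 h (h.not_e2 ha) (h.not_e2 hb) (e ha hb ab)
  obtain ⟨z, h4, h5, h6⟩ := dual3 h (h.not_e2 ha) (h.not_e2 hb) (e ha hb ab) (h.not_e2 hc) (e ha hc ac) (e hb hc bc) fun e => by
    have := h.four e
    rw [h.sq, h.sq, h.self ha, h.self hb, h.self hc, B_add_left, ab, ac, bc] at this
    omega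
  have k1 := Kt.dbl (A := ∅) hp h (fun _ h => h.elim) h1
  have k2 := Kt.dbl (A := insert a ∅) hp h (by rintro _ (rfl | h); exacts [h2, h.elim]) h3
  have k3 := Kt.dbl (A := insert b (insert a ∅)) hp h (by rintro _ (rfl | rfl | h); exacts [h5, h4, h.elim]) h6
  have k4 := Kt.empty h ∅
  rw [insert_empty_eq] at k1 k2 k3
  omega

/-- independent involutions in coordinates -/
theorem Tri.coord (cz : CommZ X.cs X.h X.X) (hp : p ≠ 2) (h : Un X) {r s u : Y} (T : Tri D r s u)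
    (hc : ∀ a ∈ D, ∀ b ∈ D, a * b = b * a) (hg : g ∈ G) (h1 : g⁻¹ * r * g ∈ X.T) (h2 : g⁻¹ * s * g ∈ X.T)
    (h3 : g⁻¹ * u * g ∈ X.T) : ∃ x y z, ∀ w, (w = x ∨ w = y ∨ w = x + y ∨ w = z ∨ w = x + z ∨ w = y + z ∨ w = x + y + z) →
      ¬ E2 w ∧ ∃ d ∈ Om D, d ≠ 1 ∧ (RT X d ↔ ¬ 4 ∣ B X w w) := by
  have e0 : ∀ {d}, d ∈ Om D → g⁻¹ * d * g * (g⁻¹ * d * g) = 1 := fun hd => (sq _).symm.trans (conj_pow' ((sq _).trans hd.2))
  obtain ⟨x, hx⟩ := h.exists_tw h1 (e0 T.mr)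
  obtain ⟨y, hy⟩ := h.exists_tw h2 (e0 T.ms)
  obtain ⟨z, hz⟩ := h.exists_tw h3 (e0 T.mu)
  have e1 : ∀ {d e v w}, g⁻¹ * d * g = tw X v → g⁻¹ * e * g = tw X w → g⁻¹ * (d * e) * g = tw X (v + w) := fun k1 k2 => by
    rw [tw_add, ← k1, ← k2]; group
  have e2 : ∀ {d w}, d ∈ Om D → d ≠ 1 → g⁻¹ * d * g = tw X w → ¬ E2 w ∧ ∃ d ∈ Om D, d ≠ 1 ∧ (RT X d ↔ ¬ 4 ∣ B X w w) :=
    fun {d w} k1 k2 k3 => ⟨fun e => k2 (by rwa [tw_e2 e, ← inv_inv g, inv_inv g⁻¹, conj_eq_one_iff] at k3), d, k1, k2, by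
      rw [← rt_tw cz hp h, ← k3]
      exact ⟨fun e => e.conj hg, RT.of_conj hg⟩⟩
  obtain ⟨n1, n2, n3, n4, n5, n6, n7⟩ := T.ne
  refine ⟨x, y, z, ?_⟩
  rintro _ (rfl | rfl | rfl | rfl | rfl | rfl | rfl)
  exacts [e2 T.mr n1 hx, e2 T.ms n2 hy, e2 (om_mul hc T.mr T.ms) n3 (e1 hx hy), e2 T.mu n4 hz,
    e2 (om_mul hc T.mr T.mu) n5 (e1 hx hz), e2 (om_mul hc T.ms T.mu) n6 (e1 hy hz),
    e2 (om_mul hc (om_mul hc T.mr T.ms) T.mu) n7 (e1 (e1 hx hy) hz)]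

/-- a toral group of order eight is not pure of root type -/
theorem Tri.not_all (cz : CommZ X.cs X.h X.X) (hp : p ≠ 2) (h : Un X) {r s u : Y} (T : Tri D r s u)
    (hc : ∀ a ∈ D, ∀ b ∈ D, a * b = b * a) (hg : g ∈ G) (h1 : g⁻¹ * r * g ∈ X.T) (h2 : g⁻¹ * s * g ∈ X.T)
    (h3 : g⁻¹ * u * g ∈ X.T) : ∃ d ∈ Om D, d ≠ 1 ∧ ¬ RT X d := by
  by_contra H
  push Not at H
  obtain ⟨x, y, z, e⟩ := T.coord cz hp h hc hg h1 h2 h3
  have k : ∀ w, _ → ¬ 4 ∣ B X w w := fun w hw => let ⟨d, k1, k2, k3⟩ := (e w hw).2; k3.1 (H d k1 k2)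
  have k1 := k x (.inl rfl)
  have k2 := k y (by simp)
  have k3 := k (x + y) (by simp)
  have k4 := k z (by simp)
  have k5 := k (x + z) (by simp)
  have k6 := k (y + z) (by simp)
  have k7 := k (x + y + z) (by simp)
  have := h.even x
  have := h.even y
  have := h.even z
  rw [h.sq] at k3 k5 k6 k7
  rw [h.sq, B_add_left] at k7
  omega

/-- a toral group whose subsystem is saturated -/
theorem toral_of (H : Co (GF F G) D) (hg : g ∈ G) (h1 : ∀ d ∈ D, g⁻¹ * d * g ∈ X.T)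
    (h2 : ∀ y hy hN, D ≤ (X.conj (y := y) hy hN).T → Sat (X.conj hy hN) ((X.conj hy hN).Sz D)) : Ht.Toral X D := by
  obtain ⟨y, hy, hN, h3, -⟩ := SB.Exc.Max.exists_conj_le_T X (Z := D) (fun z hz => (mem_GF.1 (H.le hz)).2.symm ▸ hz) hg h1
  exact ⟨y, hy, hN, (h2 y hy hN h3).le h3 H.pg⟩

end Cfsg.Agent.KM.Ev.Q2
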