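import Cfsg.Agent.KM.Ev.Blk
import Cfsg.Agent.TO.X5.GeoB
import Cfsg.Agent.RL.Ov

/-!
# KM, `l = 2`, exceptional groups: involutions of root type (helper73)

* `a1_abs` : the components of `D` in a stable factor of the centraliser of an involution commute;
* `Rk X t K` : `t` is conjugate to `a^∨(-1)`, `a` long, `K` is the group of rank one; `Rk.move`, `a1`;
* `Lp X P` : the centraliser of the coroot tori of `P`; **`tor_all`**.
-/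

set_option autoImplicit false
set_option linter.unusedSectionVars false

namespace Cfsg.Agent.KM.Ev

open Cfsg Subgroup Cfsg.Agent.DL Cfsg.Agent.Nodes.Reps Cfsg.Agent.Nodes.BNOf Cfsg.Agent.Nodes.Coroot Cfsg.Agent.BpExc.Zc
  Cfsg.Agent.TO.X5 Cfsg.Agent.ChevalleyStructure.CoxeterGeom Cfsg.Agent.Tits.Roots

section Grp

variable {Y : Type} [Group Y] {K : Subgroup Y}

/-- the product of `K` and its centraliser -/
def KC (K D : Subgroup Y) : Subgroup Y where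
  carrier := {x | x ∈ K ∧ ∃ d ∈ D, x⁻¹ * d ∈ centralizer (K : Set Y)}
  one_mem' := ⟨one_mem _, 1, one_mem _, by rw [inv_one, mul_one]; exact one_mem _⟩
  mul_mem' := fun {x y} ⟨hx, d, hd, h⟩ ⟨hy, e, he, h'⟩ => ⟨mul_mem hx hy, _, mul_mem hd he, by
    rw [show (x * y)⁻¹ * (d * e) = y⁻¹ * (x⁻¹ * d) * e by group, h _ (inv_mem hy), mul_assoc]
    exact mul_mem h h'⟩
  inv_mem' := fun {x} ⟨hx, d, hd, h⟩ => ⟨inv_mem hx, _, inv_mem hd, by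
    rw [show x⁻¹⁻¹ * d⁻¹ = x * (x⁻¹ * d)⁻¹ * x⁻¹ by group, inv_mem h x hx, mul_inv_cancel_right]
    exact inv_mem h⟩

/-- the elements with a component in `K` -/
def KP (K : Subgroup Y) : Subgroup Y where
  carrier := {d | ∃ x ∈ K, x⁻¹ * d ∈ centralizer (K : Set Y)}
  one_mem' := ⟨1, one_mem _, by rw [inv_one, mul_one]; exact one_mem _⟩
  mul_mem' := fun {d e} ⟨x, hx, h⟩ ⟨y, hy, h'⟩ => ⟨_, mul_mem hx hy, by
    rw [show (x * y)⁻¹ * (d * e) = y⁻¹ * (x⁻¹ * d) * e by group, h _ (inv_mem hy), mul_assoc]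
    exact mul_mem h h'⟩
  inv_mem' := fun {d} ⟨x, hx, h⟩ => ⟨_, inv_mem hx, by
    rw [show x⁻¹⁻¹ * d⁻¹ = x * (x⁻¹ * d)⁻¹ * x⁻¹ by group, inv_mem h x hx, mul_inv_cancel_right]
    exact inv_mem h⟩

theorem KP.conj {y x : Y} (hy : y ∈ KP K) (hx : x ∈ K) : y * x * y⁻¹ ∈ K := by
  obtain ⟨z, hz, h⟩ := hy
  rw [show y * x * y⁻¹ = z * (z⁻¹ * y * x) * y⁻¹ by group, ← h x hx, show z * (x * (z⁻¹ * y)) * y⁻¹ = z * x * z⁻¹ by group]
  exact mul_mem (mul_mem hz hx) (inv_mem hz)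

theorem KP.cj {y : Y} (hy : y ∈ KP K) : cj y K = K := Subgroup.ext fun x => mem_cj.trans
  ⟨fun h => by simpa [mul_assoc] using KP.conj hy h, fun h => by simpa using KP.conj (inv_mem hy) h⟩

theorem cen_cj {g z : Y} : z ∈ centralizer (cj g K : Set Y) ↔ g⁻¹ * z * g ∈ centralizer (K : Set Y) := by
  refine ⟨fun h x hx => ?_, fun h x hx => ?_⟩
  · have := h (g * x * g⁻¹) (mem_cj.2 (by simpa [mul_assoc] using hx))
    calc _ = g⁻¹ * (g * x * g⁻¹ * z) * g := by group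
      _ = _ := by rw [this]; group
  · have := h _ (mem_cj.1 hx)
    calc _ = g * (g⁻¹ * x * g * (g⁻¹ * z * g)) * g⁻¹ := by group
      _ = _ := by rw [this]; group

theorem KP.of_cj {g y : Y} (h : g⁻¹ * y * g ∈ KP K) : y ∈ KP (Nodes.Reps.cj g K) := by
  obtain ⟨x, hx, h⟩ := h
  refine ⟨g * x * g⁻¹, mem_cj.2 (by simpa [mul_assoc] using hx), cen_cj.2 ?_⟩
  rwa [show g⁻¹ * ((g * x * g⁻¹)⁻¹ * y) * g = x⁻¹ * (g⁻¹ * y * g) by group]

/-- **the components commute** -/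
theorem a1_abs {F : MulAut Y} {G D : Subgroup Y} {t : Y} (H : Co (GF F G) D) (hK : K ≤ G) (hF : ∀ x, F x ∈ K ↔ x ∈ K)
    (ht : t * t = 1) (hZ : ∀ z ∈ K, z ∈ centralizer (K : Set Y) → z = 1 ∨ z = t)
    (hC : ∀ y ∈ GF F G, (∀ d ∈ D, d * y = y * d) → y ∈ KP K) :
    (∀ x ∈ KC K D, ∃ j : ℕ, x ^ 2 ^ j = 1) ∧ ∀ x ∈ KC K D, ∀ y ∈ KC K D, x * y = y * x := by
  have h1 : ∀ x ∈ KC K D, ∃ j : ℕ, x ^ 2 ^ j = 1 := fun x ⟨hx, d, hd, h⟩ => by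
    obtain ⟨j, hj⟩ := H.pg d hd
    rw [← mul_inv_cancel_left x d, (show Commute x _ from h x hx).mul_pow] at hj
    refine ⟨j + 1, ?_⟩
    rw [pow_succ, pow_mul, sq]
    rcases hZ _ (pow_mem hx _) (eq_inv_of_mul_eq_one_left hj ▸ inv_mem (pow_mem h _)) with e | e <;> rw [e]
    exacts [mul_one _, ht]
  have h2 : KC K D ⊓ fix F ≤ D := H.core _ (fun x hx => ⟨hK hx.1.1, hx.2⟩) (fun x hx => h1 x hx.1)
    fun y hy hc u ⟨⟨hu, d, hd, h⟩, h3⟩ => by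
      have h4 := hC y hy hc
      refine ⟨⟨KP.conj h4 hu, d, hd, ?_⟩, mem_fix.2 (by rw [map_mul, map_mul, map_inv, (mem_GF.1 hy).2, mem_fix.1 h3])⟩
      rw [← KP.cj h4, cen_cj, show y⁻¹ * ((y * u * y⁻¹)⁻¹ * d) * y = u⁻¹ * (y⁻¹ * (d * y)) by group, hc d hd,
        inv_mul_cancel_left]
      exact h
  have h3 : ∀ x ∈ KC K D, ∀ u ∈ KC K D, F u = u → x * u = u * x := fun x ⟨hx, d, hd, h⟩ u hu e => by
    have h4 := H.ab d hd u (h2 ⟨hu, e⟩)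
    calc _ = x * (u * (x⁻¹ * d)) * (x⁻¹ * d)⁻¹ := by group
      _ = d * u * (x⁻¹ * d)⁻¹ := by rw [h u hu.1]; group
      _ = _ := by rw [h4]; group
  have h4 : ∀ x ∈ KC K D, F x = x ∨ (F x = x * t ∧ t ∈ centralizer (K : Set Y)) := fun x ⟨hx, d, hd, h⟩ => by
    have h5 : x⁻¹ * F x ∈ centralizer (K : Set Y) := by
      rw [show x⁻¹ * F x = x⁻¹ * d * (F (x⁻¹ * d))⁻¹ by rw [map_mul, map_inv, (mem_GF.1 (H.le hd)).2]; group]
      refine mul_mem h (inv_mem fun z hz => ?_)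
      obtain ⟨z, rfl⟩ := F.surjective z
      rw [← map_mul, h z ((hF z).1 hz), map_mul]
    exact (hZ _ (mul_mem (inv_mem hx) ((hF x).2 hx)) h5).imp (fun e => (inv_mul_eq_one.1 e).symm)
      fun e => ⟨inv_mul_eq_iff_eq_mul.1 e, e ▸ h5⟩
  refine ⟨h1, fun x hx y hy => ?_⟩
  rcases h4 y hy with e | ⟨e, h5⟩
  · exact h3 x hx y hy e
  rcases h4 x hx with e' | ⟨e', -⟩
  · exact (h3 y hy x hx e').symm
  have h6 := h3 x hx _ (mul_mem hx hy) (by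
    rw [map_mul, e, e', mul_assoc, ← mul_assoc t, ← h5 y hy.1, mul_assoc, ht, mul_one])
  rw [mul_assoc] at h6
  exact mul_left_cancel h6

end Grp

variable {p : ℕ} [Fact p.Prime] {k : Type} [Field k] [CharP k p] {Y : Type} [Group Y] {N : Type} [Fintype N]
  [DecidableEq N] {ρ : Y →* GL N k} {F : MulAut Y} {G : Subgroup Y} [IsAlgClosed k] {X : Datum p ρ F G}
  {a b : X.I → ℤ} {D K : Subgroup Y} {t g : Y}

theorem lg_act (h : Lg X a) (w : X.W) : Lg X (X.act w a) := ⟨h.1.act w, fun c hc h1 => by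
  have h2 := h.2 (X.act w⁻¹ c) (hc.act _) fun e => h1 (by rw [← e]; exact (rep_apply_inv ..).symm)
  rwa [← cpr_rep X.cs X.h w _ h.1, rep_apply_inv] at h2⟩

theorem cpr_bd (h : Lg X a) (hb : X.Rt b) (h1 : b ≠ a) (h2 : b ≠ -a) : |cpr X.cs X.h b a| ≤ 1 := by
  have h3 := h.neg.2 b hb h2
  rw [cpr_neg_right _ _ _ h.1] at h3
  exact abs_le.2 ⟨by omega, h.2 b hb h1⟩

theorem ord_neg (hp : p ≠ 2) : orderOf (-1 : kˣ) = 2 := by
  refine orderOf_eq_prime (by simp) fun e => hp ?_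
  have h : ((2 : ℕ) : k) = 0 := by
    have := congrArg Units.val e
    rw [Units.val_neg, Units.val_one] at this
    rw [Nat.cast_two, ← one_add_one_eq_two, ← neg_eq_iff_add_eq_zero, this]
  exact (Nat.prime_dvd_prime_iff_eq Fact.out Nat.prime_two).1 ((CharP.cast_eq_zero_iff k p 2).1 h)

theorem χ_ct_iff (ha : X.Rt a) (b : X.I → ℤ) (s : kˣ) : X.χ b (ct X a s) = 1 ↔ (orderOf s : ℤ) ∣ cpr X.cs X.h b a := by
  rw [χ_ct ha, Units.val_eq_one, orderOf_dvd_iff_zpow_eq_one]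

theorem sz_neg (hp : p ≠ 2) (h : Lg X a) (hb : b ∈ X.Sz {ct X a (-1)}) : b = a ∨ b = -a ∨ cpr X.cs X.h b a = 0 := by
  by_contra h1
  push Not at h1
  have h2 := (χ_ct_iff h.1 b _).1 (hb.2 _ rfl)
  have h3 := abs_le.1 (cpr_bd h hb.1 h1.1 h1.2.1)
  rw [ord_neg hp] at h2
  omega

theorem neg_Kr (ha : X.Rt a) : ct X a (-1) ∈ Kr X a := ⟨ct_mem _ _, by rw [χ_ct ha, cpr_self _ _ ha]; simp⟩

theorem ct_sq (a : X.I → ℤ) : ct X a (-1) * ct X a (-1) = 1 := by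
  rw [← ct_mul, neg_mul_neg, one_mul, ct, map_one, map_one]

theorem cen_le_KP (cz : CommZ X.cs X.h X.X) (h : Lg X a) {Z : Set Y}
    (hZ : ∀ b ∈ X.Sz Z, b = a ∨ b = -a ∨ cpr X.cs X.h b a = 0) : X.cen Z ≤ KP (X.S {a, -a}) := by
  refine sup_le (fun t ht => ?_) (RGD.Sup_le fun b hb u hu => ?_)
  · obtain ⟨s, hs⟩ := exists_zpow_eq (k := k) two_ne_zero (Units.mk0 _ (X.χ_ne_zero a t))
    refine ⟨_, ct_S h.1 s, fun x hx => (comm_Kr h.1 hx ⟨mul_mem (inv_mem (ct_mem _ _)) ht, ?_⟩).symm⟩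
    rw [X.χ_mul _ (inv_mem (ct_mem _ _)) ht, X.χ_inv _ (ct_mem _ _), χ_ct h.1, cpr_self _ _ h.1, hs, Units.val_mk0,
      inv_mul_cancel₀ (X.χ_ne_zero a t)]
  · rcases hZ b hb with rfl | rfl | e
    · exact ⟨u, RGD.le_Sup (S := {b, -b}) (.inl rfl) hu, by rw [inv_mul_cancel]; exact one_mem _⟩
    · exact ⟨u, RGD.le_Sup (S := {a, -a}) (.inr rfl) hu, by rw [inv_mul_cancel]; exact one_mem _⟩
    · refine ⟨1, one_mem _, fun x hx => ?_⟩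
      rw [inv_one, one_mul]
      refine comm_S cz (A' := {b}) ?_ (fun _ e => e ▸ hb.1) ?_ hx (RGD.le_Sup (S := {b}) rfl hu)
      · rintro c (rfl | rfl)
        exacts [h, h.neg]
      · rintro c (rfl | rfl) _ rfl
        exacts [e, by rw [cpr_neg_right _ _ _ h.1, e, neg_zero]]

theorem χ_of_comm (ha : X.Rt a) (ht : t ∈ X.T) (h : X.x a 1 * t = t * X.x a 1) : X.χ a t = 1 := by
  have h1 := X.tor' ha ht 1
  rw [← h, mul_inv_cancel_right, mul_one] at h1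
  exact (X.x_inj a ha h1).symm

theorem ct_cases (ha : X.Rt a) {s : kˣ} (h : X.χ a (ct X a s) = 1) : ct X a s = 1 ∨ ct X a s = ct X a (-1) := by
  rw [χ_ct ha, cpr_self _ _ ha, Units.val_eq_one, zpow_ofNat, sq, ← Units.val_inj, Units.val_mul, Units.val_one,
    mul_self_eq_one_iff] at h
  exact h.imp (fun e => by rw [show s = 1 from Units.ext e, ct, map_one, map_one]) fun e => by
    rw [show s = -1 from Units.ext e]

theorem cen_K (ha : X.Rt a) {z : Y} (hz : z ∈ X.S {a, -a}) (h : z ∈ centralizer (X.S {a, -a} : Set Y)) :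
    z = 1 ∨ z = ct X a (-1) := by
  obtain ⟨s, rfl⟩ := eq_ct ha hz fun s => h _ (ct_S ha s)
  exact ct_cases ha (χ_of_comm ha (ct_mem _ _) (h _ (RGD.le_Sup (S := {a, -a}) (.inl rfl) (X.x_mem ha 1))))

/-- the centraliser of a non-central element of the coroot torus -/
theorem comm_ct (ha : X.Rt a) (h1 : ct X a (-1) ≠ 1) {c : kˣ} (hc : X.χ a (ct X a c) ≠ 1) {x : Y} (hx : x ∈ X.S {a, -a})
    (h : ct X a c * x = x * ct X a c) (s : kˣ) : ct X a s * x = x * ct X a s := by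
  have hZ : insert (ct X a c) (Kr X a) ⊆ X.T := Set.insert_subset (ct_mem _ _) (Kr_le a)
  obtain ⟨u, hu, m, ⟨w, hm⟩, h2, rfl⟩ := X.exists_cen_form hZ (X.S_le_G (TO.G2D.rt_pair ha) hx) (by
    rintro z (rfl | hz)
    exacts [h, comm_Kr ha hx hz])
  obtain rfl : u = 1 := mem_bot.1 (RGD.Sup_le (K := ⊥) (fun b hb => by
    have h3 := hb.2 _ (.inl rfl)
    rcases (Sz_Kr ha).subset (Tor.Sz_anti (Set.subset_insert _ _) hb) with rfl | rfl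
    · exact (hc h3).elim
    · exact (hc (by rwa [X.χ_neg, inv_eq_one] at h3)).elim) hu)
  rw [one_mul]
  rcases (Sz_Kr ha).subset (show X.act w a ∈ X.Sz (Kr X a) from
    ⟨ha.act w, fun z hz => (X.χ_act_of_comm hZ hm h2 a (.inr hz)).trans hz.2⟩) with e | e
  · rw [eq_comm, ← mul_inv_eq_iff_eq_mul, conj_ct hm ha, e]
  · have h3 := conj_ct hm ha c
    rw [← h2 _ (.inl rfl), mul_inv_cancel_right, e, ct_neg ha] at h3
    have h4 : ct X a (c * c) = 1 := by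
      rw [ct_mul]
      nth_rw 1 [h3]
      rw [← ct_mul, inv_mul_cancel, ct, map_one, map_one]
    have h5 := congrArg (X.χ a) h4
    rw [X.χ_one, χ_ct ha, cpr_self _ _ ha, zpow_ofNat, sq, Units.val_mul, mul_self_eq_one_iff] at h5
    rw [χ_ct ha, cpr_self _ _ ha, zpow_ofNat, sq] at hc
    exact (h1 (by rw [← h4, show c * c = -1 from Units.ext (h5.resolve_left hc)])).elim

theorem toral_K (ha : X.Rt a) {z : Y} (hz : z ∈ X.S {a, -a}) (h : ¬ p ∣ orderOf z) :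
    ∃ h ∈ X.S {a, -a}, ∃ c, h⁻¹ * z * h = ct X a c := by
  obtain ⟨m, hm, h9⟩ := X.amb.exists_pow_fix fun _ : Unit => z
  obtain ⟨i, hi⟩ := X.exists_split'.choose_spec
  obtain ⟨y, hy, -, h10⟩ := TO.E6.exists_frame_cen (X.pow (Nat.mul_pos hi.d_pos hm)) (Z := Kr X a) (Kr_le a)
    (fun u hu => by
      rw [(hi.mul hm).T hu.1]
      exact ⟨pow_mem hu.1 _, by rw [TO.X.Cn.χ_pow X a hu.1, hu.2, one_pow]⟩)
    (X.S_le_cen (Kr X a) (by rw [Sz_Kr ha]; exact hz)) (by rw [pow_mul']; exact fix_le_fix_pow _ (h9 ())) h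
  obtain ⟨h, hh, u, hu, rfl⟩ := (X.mem_TS (TO.G2D.rt_pair ha)).1 (show y ∈ X.T ⊔ X.S {a, -a} by rw [← Sz_Kr ha]; exact hy)
  have h11 := X.conj_mem_T (X.T_le_NN hu) h10
  rw [show u * ((h * u)⁻¹ * z * (h * u)) * u⁻¹ = h⁻¹ * z * h by group] at h11
  exact ⟨h, hh, TO.G2D.rank_T ha h11 (mul_mem (mul_mem (inv_mem hh) hz) hh)⟩

variable (X) in
/-- rational involutions have connected centralisers, as far as rational elements are concerned -/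
def MC : Prop := ∀ t ∈ GF F G, t * t = 1 → ∀ y ∈ GF F G, y * t = t * y → ∀ g ∈ G, g⁻¹ * t * g ∈ X.T →
  g⁻¹ * y * g ∈ X.cen {g⁻¹ * t * g}

theorem conj_comm {Y : Type} [Group Y] {g x y : Y} (h : x * y = y * x) :
    g⁻¹ * x * g * (g⁻¹ * y * g) = g⁻¹ * y * g * (g⁻¹ * x * g) :=
  calc _ = g⁻¹ * (x * y) * g := by group
    _ = _ := by rw [h]; group

theorem conj_pow' {Y : Type} [Group Y] {g z : Y} {n : ℕ} (h : z ^ n = 1) : (g⁻¹ * z * g) ^ n = 1 := by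
  rw [← inv_inv g, inv_inv g⁻¹, conj_pow, h, mul_one, mul_inv_cancel]

theorem mc_of {f : ℕ} (h : TO.X.Cn.Pi1 X f) (hf : Nat.Coprime 2 f) : MC X := fun _ _ h1 _ hy h2 _ hg h3 =>
  TO.X.Cn.mem_cen h h3 (conj_pow' ((sq _).trans h1)) hf (mul_mem (mul_mem (inv_mem hg) hy.1) hg) (conj_comm h2)

variable (X) in
/-- an involution of root type with its group of rank one -/
def Rk (t : Y) (K : Subgroup Y) : Prop := ∃ g ∈ G, ∃ a, Lg X a ∧ g⁻¹ * t * g = ct X a (-1) ∧ K = cj g (X.S {a, -a})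

variable (cz : CommZ X.cs X.h X.X) (hp : p ≠ 2)
include cz hp

theorem Rk.move (h : Rk X t K) (hg : g ∈ G) (ht : g⁻¹ * t * g ∈ X.T) :
    ∃ a, Lg X a ∧ g⁻¹ * t * g = ct X a (-1) ∧ K = cj g (X.S {a, -a}) := by
  obtain ⟨y, hy, a, ha, h1, rfl⟩ := h
  obtain ⟨c, hc, m, ⟨w, hm⟩, h2, h3⟩ := X.exists_conj_form (ι := Unit) (s := fun _ => ct X a (-1))
    (t := fun _ => g⁻¹ * t * g) (fun _ => ct_mem _ _) (fun _ => ht) (mul_mem (inv_mem hg) hy) fun _ => by rw [← h1]; group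
  have h4 : g⁻¹ * t * g = ct X (X.act w a) (-1) := by rw [← conj_ct hm ha.1, h2 (), mul_inv_cancel_right]
  refine ⟨_, lg_act ha w, h4, ?_⟩
  rw [Set.range_const, h4] at hc
  rw [inv_mul_eq_iff_eq_mul.1 h3, cj_mul, cj_mul, X.cj_S hm (TO.G2D.rt_pair ha.1), Set.image_pair,
    show X.act w (-a) = -X.act w a from map_neg _ _,
    KP.cj (cen_le_KP cz (lg_act ha w) (fun _ => sz_neg hp (lg_act ha w)) (X.S_le_cen _ hc))]

/-- **[A1]** -/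
theorem a1 (mc : MC X) (H : Co (GF F G) D) (hg : g ∈ G) (ha : Lg X a) (ht : t ∈ D) (h1 : t ≠ 1)
    (e : g⁻¹ * t * g = ct X a (-1)) (hF : ∀ y ∈ cj g (X.S {a, -a}), F y ∈ cj g (X.S {a, -a})) :
    ∃ h ∈ X.S {a, -a}, ∀ d ∈ D, ∀ s, ct X a s * ((g * h)⁻¹ * d * (g * h)) = (g * h)⁻¹ * d * (g * h) * ct X a s := by
  have hr := TO.G2D.rt_pair ha.1
  have h2 : t * t = 1 := by
    have := ct_sq (X := X) a
    rwa [← e, show g⁻¹ * t * g * (g⁻¹ * t * g) = g⁻¹ * (t * t) * g⁻¹⁻¹ by group, conj_eq_one_iff] at this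
  have h3 : ∀ y ∈ GF F G, (∀ d ∈ D, d * y = y * d) → y ∈ KP (cj g (X.S {a, -a})) := fun y hy hc =>
    KP.of_cj (cen_le_KP cz ha (fun _ => sz_neg hp ha) (e ▸ mc t (H.le ht) h2 y hy (hc t ht).symm g hg (e ▸ ct_mem _ _)))
  obtain ⟨h4, h5⟩ := a1_abs H (K := cj g (X.S {a, -a})) (fun x hx => by
      simpa [mul_assoc] using mul_mem (mul_mem hg (X.S_le_G hr (mem_cj.1 hx))) (inv_mem hg)) (X.amb.mem_iff hF) h2
    (fun z hz h => (cen_K ha.1 (mem_cj.1 hz) (cen_cj.1 h)).imp (fun e => by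
      rwa [← inv_inv g, inv_inv g⁻¹, conj_eq_one_iff] at e) fun e' => by simpa using e'.trans e.symm) h3
  have h6 : ∀ d ∈ D, ∃ x ∈ KC (cj g (X.S {a, -a})) D, g⁻¹ * (x⁻¹ * d) * g ∈ centralizer (X.S {a, -a} : Set Y) := fun d hd =>
    let ⟨x, hx, h⟩ := h3 d (H.le hd) fun e he => H.ab e he d hd
    ⟨x, ⟨hx, d, hd, h⟩, cen_cj.1 h⟩
  by_cases h7 : ∀ x ∈ KC (cj g (X.S {a, -a})) D, g⁻¹ * x * g ∈ centralizer (X.S {a, -a} : Set Y)
  · refine ⟨1, one_mem _, fun d hd s => ?_⟩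
    obtain ⟨x, hx, h⟩ := h6 d hd
    rw [mul_one, show g⁻¹ * d * g = g⁻¹ * x * g * (g⁻¹ * (x⁻¹ * d) * g) by group]
    exact mul_mem (h7 x hx) h _ (ct_S ha.1 s)
  push Not at h7
  obtain ⟨z, hz, h7⟩ := h7
  obtain ⟨j, hj⟩ := h4 z hz
  have h8 := mem_cj.1 hz.1
  obtain ⟨h, hh, c, hc⟩ := toral_K ha.1 h8 (Tor.not_dvd_ord Nat.prime_two hp.symm (conj_pow' hj))
  refine ⟨h, hh, fun d hd s => ?_⟩
  obtain ⟨x, hx, h12⟩ := h6 d hd
  have h13 := comm_ct ha.1 (fun e' => h1 (by rwa [← e, ← inv_inv g, inv_inv g⁻¹, conj_eq_one_iff] at e')) (c := c)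
    (fun e' => h7 fun v hv => by
      have h13 := conj_comm (g := h⁻¹) (hc ▸ comm_Kr ha.1 (mul_mem (mul_mem (inv_mem hh) hv) hh) ⟨ct_mem a c, e'⟩)
      simpa only [inv_inv, mul_assoc, mul_inv_cancel_left, mul_inv_cancel, mul_one] using h13.symm)
    (mul_mem (mul_mem (inv_mem hh) (mem_cj.1 hx.1)) hh) (hc ▸ conj_comm (conj_comm (h5 z hz x hx))) s
  rw [show (g * h)⁻¹ * d * (g * h) = h⁻¹ * (g⁻¹ * x * g) * h * (h⁻¹ * (g⁻¹ * (x⁻¹ * d) * g) * h) by group, ← mul_assoc, h13,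
    mul_assoc h⁻¹ (g⁻¹ * (x⁻¹ * d) * g) h, ← h12 h hh, inv_mul_cancel_left, mul_assoc, h12 _ (ct_S ha.1 s), ← mul_assoc]

omit cz hp

/-! ### the centralisers of coroot tori -/

variable (X) in
/-- the roots orthogonal to `P` -/
def Pe (P : Set (X.I → ℤ)) : Set (X.I → ℤ) := {b | X.Rt b ∧ ∀ a ∈ P, cpr X.cs X.h b a = 0}

variable (X) in
/-- the centraliser of the coroot tori of `P` -/
def Lp (P : Set (X.I → ℤ)) : Subgroup Y := X.T ⊔ X.S (Pe X P)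

variable {P : Set (X.I → ℤ)} {y : Y}

theorem Lp_le_G : Lp X P ≤ G := sup_le X.T_le_G (X.S_le_G fun _ h => h.1)

theorem Lp_le_cen {Z : Set Y} (h : Pe X P ⊆ X.Sz Z) : Lp X P ≤ X.cen Z := sup_le_sup_left (RGD.Sup_mono h) _

theorem Lp_comm (ha : X.Rt a) (h : a ∈ P) (hy : y ∈ Lp X P) (s : kˣ) : ct X a s * y = y * ct X a s :=
  X.cen_le_centralizer (Z := {ct X a s}) (Set.singleton_subset_iff.2 (ct_mem _ _)) (Lp_le_cen (fun b hb => ⟨hb.1, by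
    rintro _ rfl
    rw [χ_ct ha, hb.2 a h, zpow_zero, Units.val_one]⟩) hy) _ rfl

theorem sz_ct (hP : ∀ a ∈ P, Lg X a) {ζ : kˣ} (h : 3 ≤ orderOf ζ) : X.Sz ((fun a => ct X a ζ) '' P) = Pe X P :=
  Set.ext fun b => and_congr_right fun hb => by
    rw [Set.forall_mem_image]
    refine forall₂_congr fun a ha => (χ_ct_iff (hP a ha).1 b ζ).trans ⟨fun h1 => Int.eq_zero_of_abs_lt_dvd h1 ?_, fun e => e ▸ dvd_zero _⟩
    by_cases h2 : b = a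
    · rw [h2, cpr_self _ _ (hP a ha).1, abs_two]; omega
    by_cases h3 : b = -a
    · rw [h3, cpr_neg _ _ _ (hP a ha).1, cpr_self _ _ (hP a ha).1, abs_neg, abs_two]; omega
    · have := cpr_bd (hP a ha) hb h2 h3
      omega

theorem exists_Zp (hp : p ≠ 2) (hP : ∀ a ∈ P, Lg X a) : ∃ Z : Set Y, Z.Finite ∧ Z ⊆ X.T ∧ (∀ j, TO.E6.Cop Z (2 ^ j)) ∧
    X.Sz Z = Pe X P ∧ ∀ z ∈ Z, ∃ a ∈ P, ∃ s, z = ct X a s := by
  have h1 : p.Prime := Fact.out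
  obtain ⟨ζ, hζ⟩ := Tor.exists_prim p k (n := p + 2) fun h =>
    hp ((Nat.prime_dvd_prime_iff_eq h1 Nat.prime_two).1 ((Nat.dvd_add_right dvd_rfl).1 h))
  refine ⟨_, (X.finite_roots.subset fun a ha => (hP a ha).1).image _, fun _ ⟨a, _, e⟩ => e ▸ ct_mem _ _, fun j _ ⟨a, _, e⟩ =>
    ⟨p + 2, ?_, ?_⟩, sz_ct hP (ζ := ζ) (by have := h1.two_le; omega), fun _ ⟨a, ha, e⟩ => ⟨a, ha, ζ, e.symm⟩⟩
  · exact Nat.Coprime.pow_right j (Nat.coprime_two_right.2 ((h1.odd_of_ne_two hp).add_even even_two))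
  · rw [← e]
    show X.τ _ ^ _ = _
    rw [← map_pow, ← map_pow, ← hζ, pow_orderOf_eq_one, map_one, map_one]

theorem mem_Lp (hp : p ≠ 2) (hP : ∀ a ∈ P, Lg X a) (hy : y ∈ G) {j : ℕ} (h1 : y ^ 2 ^ j = 1)
    (h2 : ∀ a ∈ P, ∀ s, ct X a s * y = y * ct X a s) : y ∈ Lp X P := by
  obtain ⟨Z, -, z1, z2, z3, z4⟩ := exists_Zp hp hP
  have := TO.E6.mem_cen_of_cop X z1 hy (fun z hz => by
    obtain ⟨a, ha, s, rfl⟩ := z4 z hz
    exact h2 a ha s) (pow_pos two_pos j) (z2 j) (h1 ▸ one_mem _)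
  rwa [Datum.cen, z3] at this

theorem toral_Lp (hp : p ≠ 2) (hP : ∀ a ∈ P, Lg X a) (hy : y ∈ Lp X P) (h : ¬ p ∣ orderOf y) :
    ∃ g ∈ Lp X P, g⁻¹ * y * g ∈ X.T := by
  obtain ⟨Z, z0, z1, -, z3, -⟩ := exists_Zp hp hP
  rw [Lp, ← z3] at hy ⊢
  exact Tor.toral_cen z1 z0 hy h

theorem mem_cen_Lp (hp : p ≠ 2) (hP : ∀ a ∈ P, Lg X a) (ht : t ∈ X.T) (hy : y ∈ X.cen {t}) {j : ℕ} (h1 : y ^ 2 ^ j = 1)
    (h2 : y ∈ Lp X P) : y ∈ X.T ⊔ X.S (Pe X P ∩ X.Sz {t}) := by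
  obtain ⟨Z, -, z1, z2, z3, z4⟩ := exists_Zp hp hP
  obtain ⟨m, hm, h3⟩ := X.amb.exists_pow_fix fun _ : Unit => t
  have hZ := Set.singleton_subset_iff.2 ht
  have h4 := TO.E6.mem_cen_of_cop ((X.pow hm).sub hZ (fun _ => (X.pow hm).g_mem_Sz hZ fun _ e => e ▸ h3 ()) rfl) (Z := Z) z1 hy
    (fun z hz => by
      obtain ⟨a, ha, s, rfl⟩ := z4 z hz
      exact Lp_comm (hP a ha).1 ha h2 s) (pow_pos two_pos j) (z2 j) (h1 ▸ one_mem _)
  rw [RL.sub_cen] at h4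
  exact sup_le_sup_left (RGD.Sup_mono (S := X.Sz (Z ∪ {t})) (S' := Pe X P ∩ X.Sz {t}) fun b hb =>
    ⟨z3 ▸ Tor.Sz_anti Set.subset_union_left hb, Tor.Sz_anti Set.subset_union_right hb⟩) _ h4

include cz hp in
/-- **all involutions of root type in one frame** -/
theorem tor_all (mc : MC X) (H : Co (GF F G) D) {R : Set Y} (hR : R.Finite)
    (h : ∀ t ∈ R, t ∈ D ∧ t ≠ 1 ∧ ∃ K, Rk X t K ∧ ∀ y ∈ K, F y ∈ K) :
    ∃ g ∈ G, ∃ P : Set (X.I → ℤ), (∀ a ∈ P, Lg X a) ∧ (∀ t ∈ R, ∃ a ∈ P, g⁻¹ * t * g = ct X a (-1)) ∧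
      ∀ d ∈ D, g⁻¹ * d * g ∈ Lp X P := by
  have hD : ∀ d ∈ D, ∀ g ∈ G, g⁻¹ * d * g ∈ G ∧ ∃ j : ℕ, (g⁻¹ * d * g) ^ 2 ^ j = 1 := fun d hd g hg =>
    ⟨mul_mem (mul_mem (inv_mem hg) (H.le hd).1) hg, (H.pg d hd).imp fun _ => conj_pow'⟩
  have e1 : ∀ g c d : Y, (g * c)⁻¹ * d * (g * c) = c⁻¹ * (g⁻¹ * d * g) * c := fun _ _ _ => by group
  induction R, hR using Set.Finite.induction_on with
  | empty => exact ⟨1, one_mem _, ∅, fun _ h => h.elim, fun _ h => h.elim, fun d hd =>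
      let ⟨h1, _, h2⟩ := hD d hd 1 (one_mem _)
      mem_Lp hp (fun _ h => h.elim) h1 h2 fun _ h => h.elim⟩
  | @insert t R _ _ ih =>
    obtain ⟨g, hg, P, h1, h2, h3⟩ := ih fun t ht => h t (.inr ht)
    obtain ⟨t1, t2, K, t3, t4⟩ := h t (.inl rfl)
    have key : ∀ g ∈ G, (∀ t ∈ R, ∃ a ∈ P, g⁻¹ * t * g = ct X a (-1)) → (∀ d ∈ D, g⁻¹ * d * g ∈ Lp X P) → ∀ c ∈ Lp X P,
        g * c ∈ G ∧ (∀ t ∈ R, ∃ a ∈ P, (g * c)⁻¹ * t * (g * c) = ct X a (-1)) ∧ ∀ d ∈ D, (g * c)⁻¹ * d * (g * c) ∈ Lp X P :=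
      fun g hg h2 h3 c hc => ⟨mul_mem hg (Lp_le_G hc), fun t ht => (h2 t ht).imp fun a ha => ⟨ha.1, by
        rw [e1, ha.2, mul_assoc, Lp_comm (h1 a ha.1).1 ha.1 hc, inv_mul_cancel_left]⟩,
        fun d hd => e1 g c d ▸ mul_mem (mul_mem (inv_mem hc) (h3 d hd)) hc⟩
    obtain ⟨j, hj⟩ := (hD t t1 g hg).2
    obtain ⟨c, hc, h4⟩ := toral_Lp hp h1 (h3 t t1) (Tor.not_dvd_ord Nat.prime_two hp.symm hj)
    obtain ⟨hg, h2, h3⟩ := key g hg h2 h3 c hc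
    rw [← e1] at h4
    generalize g * c = g at hg h2 h3 h4
    obtain ⟨b, hb, h5, rfl⟩ := t3.move cz hp hg h4
    have h6 : ∀ a ∈ insert b P, Lg X a := by
      rintro a (rfl | ha)
      exacts [hb, h1 a ha]
    have fin : ∀ g ∈ G, (∀ t ∈ R, ∃ a ∈ P, g⁻¹ * t * g = ct X a (-1)) → g⁻¹ * t * g = ct X b (-1) →
        (∀ d ∈ D, g⁻¹ * d * g ∈ Lp X (insert b P)) → ∃ g ∈ G, ∃ P : Set (X.I → ℤ), (∀ a ∈ P, Lg X a) ∧
        (∀ s ∈ insert t R, ∃ a ∈ P, g⁻¹ * s * g = ct X a (-1)) ∧ ∀ d ∈ D, g⁻¹ * d * g ∈ Lp X P :=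
      fun g hg k1 k2 k3 => ⟨g, hg, _, h6, by
        rintro s (rfl | hs)
        exacts [⟨b, .inl rfl, k2⟩, (k1 s hs).imp fun a ha => ⟨.inr ha.1, ha.2⟩], k3⟩
    by_cases h7 : ∀ a ∈ P, cpr X.cs X.h b a = 0
    · obtain ⟨c, hc, h8⟩ := a1 cz hp mc H hg hb t1 t2 h5 t4
      obtain ⟨hg', k1, k2⟩ := key g hg h2 h3 c (le_sup_right (a := X.T) (RGD.Sup_mono (S := {b, -b}) (by
        rintro _ (rfl | rfl)
        exacts [⟨hb.1, h7⟩, ⟨hb.1.neg, fun a ha => by rw [cpr_neg _ _ _ (h1 a ha).1, h7 a ha, neg_zero]⟩]) hc))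
      refine fin _ hg' k1 (by rw [e1, h5, mul_assoc, comm_Kr hb.1 hc (neg_Kr hb.1), inv_mul_cancel_left]) fun d hd => ?_
      obtain ⟨k3, i, k4⟩ := hD d hd _ hg'
      refine mem_Lp hp h6 k3 k4 ?_
      rintro a (rfl | ha) s
      exacts [h8 d hd s, Lp_comm (h1 a ha).1 ha (k2 d hd) s]
    · refine fin g hg h2 h5 fun d hd => ?_
      obtain ⟨i, k4⟩ := (hD d hd g hg).2
      have k5 : t * t = 1 := by
        have := ct_sq (X := X) b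
        rwa [← h5, show g⁻¹ * t * g * (g⁻¹ * t * g) = g⁻¹ * (t * t) * g⁻¹⁻¹ by group, conj_eq_one_iff] at this
      refine sup_le_sup_left (RGD.Sup_mono (S' := Pe X (insert b P)) fun c hc => ⟨hc.1.1, ?_⟩) _
        (mem_cen_Lp hp h1 h4 (mc t (H.le t1) k5 d (H.le hd) (H.ab d hd t t1) g hg h4) k4 (h3 d hd))
      rintro a (rfl | ha)
      · rcases sz_neg hp hb (h5 ▸ hc.2) with rfl | rfl | e
        · exact (h7 hc.1.2).elim
        · exact (h7 fun a ha => by simpa only [cpr_neg _ _ _ (h1 a ha).1, neg_eq_zero] using hc.1.2 a ha).elim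
        · exact e
      · exact hc.1.2 a ha

end Cfsg.Agent.KM.Ev
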