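import Cfsg.Agent.KM.Ev.Q3

/-!
# KM, `l = 2`, type `E₆` (helper27)

* `S6.five` : there are no five orthogonal roots; `exists_rt`; `tor_rt` : a root type involution makes `D` toral;
* **`geo6`**.
-/

set_option autoImplicit false
set_option linter.unusedSectionVars false

namespace Cfsg.Agent.KM.Ev.Q2

open Cfsg Subgroup Cfsg.Agent.DL Cfsg.Agent.Nodes.Reps Cfsg.Agent.Nodes.BNOf Cfsg.Agent.Nodes.Coroot Cfsg.Agent.BpExc.Zc
  Cfsg.Agent.TO.X5 Cfsg.Agent.ChevalleyStructure.CoxeterGeom Cfsg.Agent.Tits.Roots Matrix Cfsg.Agent.KM.Tor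
open Cfsg.Agent.TO.X.Cn (cl cl_add cl_smul cl_zero Pi1 exists_exp χ_exp)
open Cfsg.Agent.KM.Ht (Z0 mem_Z0 Z0_le_T cen_comm_Z0)

variable {p : ℕ} [Fact p.Prime] {k : Type} [Field k] [CharP k p] {Y : Type} [Group Y] {N : Type} [Fintype N]
  [DecidableEq N] {ρ : Y →* GL N k} {F : MulAut Y} {G : Subgroup Y} [IsAlgClosed k] {X : Datum p ρ F G}
  {a b c d e x y z : X.I → ℤ} {t g : Y} {K D : Subgroup Y} {Z : Set Y} {Ψ A : Set (X.I → ℤ)}

theorem S6.even4 (h : S6 X) (ha : X.Rt a) (hb : X.Rt b) (hc : X.Rt c) (hd : X.Rt d) (ab : B X a b = 0) (ac : B X a c = 0)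
    (ad : B X a d = 0) (bc : B X b c = 0) (bd : B X b d = 0) (cd : B X c d = 0) : E2 (a + b + (a + c) + (a + d)) := by
  have ba := h.comm b a ▸ ab
  have ca := h.comm c a ▸ ac
  have da := h.comm d a ▸ ad
  have cb := h.comm c b ▸ bc
  have db := h.comm d b ▸ bd
  have dc := h.comm d c ▸ cd
  have aa := h.self ha
  have bb := h.self hb
  have cc := h.self hc
  have dd := h.self hd
  have k : ∀ {x}, E2 x → 8 ∣ B X x x := h.four
  have := h.wit (a + b) (a + c) (a + d)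
  simp only [B_add_left, B_add_right, ab, ac, ad, bc, bd, cd, ba, ca, da, aa, bb, cc, dd] at this
  rcases this (by decide) (by decide) (by decide) (by decide) (by decide) (by decide) with i | i | i | i | i | i | i
  case inr.inr.inr.inr.inr.inr => exact i
  all_goals
    have := k i
    simp only [B_add_left, B_add_right] at this
    omega

theorem S6.five (h : S6 X) (ha : X.Rt a) (hb : X.Rt b) (hc : X.Rt c) (hd : X.Rt d) (he : X.Rt e) (ab : B X a b = 0)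
    (ac : B X a c = 0) (ad : B X a d = 0) (bc : B X b c = 0) (bd : B X b d = 0) (cd : B X c d = 0) (ae : B X a e = 0)
    (be : B X b e = 0) (ce : B X c e = 0) (de : B X d e = 0) : False := by
  have h1 := h.four ((h.even4 ha hb hc hd ab ac ad bc bd cd).add (h.even4 ha hb hc he ab ac ae bc be ce).neg)
  rw [show a + b + (a + c) + (a + d) + -(a + b + (a + c) + (a + e)) = d + -e by abel, h.sq, B_neg_left, B_neg_right,
    B_neg_right, h.self hd, h.self he, de] at h1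
  omega

variable (cz : CommZ X.cs X.h X.X) (hp : p ≠ 2) (h : S6 X)
include cz hp h

theorem Tri.exists_rt {r s u : Y} (T : Tri D r s u) (hc : ∀ a ∈ D, ∀ b ∈ D, a * b = b * a) (hg : g ∈ G)
    (h1 : g⁻¹ * r * g ∈ X.T) (h2 : g⁻¹ * s * g ∈ X.T) (h3 : g⁻¹ * u * g ∈ X.T) : ∃ d ∈ Om D, d ≠ 1 ∧ RT X d := by
  by_contra H
  push Not at H
  obtain ⟨x, y, z, e⟩ := T.coord cz hp h.toUn hc hg h1 h2 h3
  have k : ∀ w, _ → 4 ∣ B X w w := fun w hw => let ⟨d, k1, k2, k3⟩ := (e w hw).2; by_contra fun k4 => H d k1 k2 (k3.2 k4)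
  have k1 := k x (.inl rfl)
  have k2 := k y (by simp)
  have k3 := k (x + y) (by simp)
  have k4 := k z (by simp)
  have k5 := k (x + z) (by simp)
  have k6 := k (y + z) (by simp)
  rw [h.sq] at k3 k5 k6
  rcases h.wit x y z k1 k2 k4 (by omega) (by omega) (by omega) with i | i | i | i | i | i | i <;>
    exact (e _ (by simp)).1 i

variable {f : ℕ} (hP : Pi1 X f) (hf : Nat.Coprime 2 f) (H : Co (GF F G) D)
include hP hf H

theorem exists_rt (h4 : 4 < (Om D).ncard) : ∃ d ∈ Om D, d ≠ 1 ∧ RT X d := by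
  obtain ⟨r, s, u, T⟩ := exists_tri H.ab h4
  by_cases h1 : RT X r
  · exact ⟨r, T.mr, T.ne.1, h1⟩
  have e : ∀ {d}, d ∈ Om D → d ^ 2 ^ 1 = 1 := fun hd => (sq _).trans hd.2
  obtain ⟨g, hg, h2, h3, h5⟩ := tor_three hP hf hp (H.le T.mr.1).1 (H.le T.ms.1).1 (H.le T.mu.1).1 (e T.mr) (e T.ms) (e T.mu)
    (H.ab _ T.mr.1 _ T.ms.1) (H.ab _ T.mr.1 _ T.mu.1) (H.ab _ T.ms.1 _ T.mu.1) fun g hg h2 => by
      obtain ⟨x, hx⟩ := h.exists_tw h2 ((sq _).symm.trans (conj_pow' (e T.mr)))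
      obtain ⟨v, hv⟩ := h.sing x (by_contra fun h3 => h1 (RT.of_conj hg (hx ▸ (rt_tw cz hp h.toUn).2 h3)))
      exact ⟨v, fun a ha => Iff.trans ⟨fun k => (χ_tw hp a x).1 (hx ▸ k.2 _ rfl),
        fun k => ⟨ha, fun _ i => i ▸ hx ▸ (χ_tw hp a x).2 k⟩⟩ (hv a ha)⟩
  exact T.exists_rt cz hp h H.ab hg h2 h3 h5

theorem tor_rt (hS : BoxSat) (ht : t ∈ Om D) (h1 : t ≠ 1) (h2 : RT X t) : ∃ g ∈ G, ∀ d ∈ D, g⁻¹ * d * g ∈ X.T := by
  obtain ⟨g, hg, P, k1, k2, k3⟩ := tor_all cz hp (mc_of hP hf) H (Set.finite_singleton t) fun _ e =>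
    e ▸ ⟨ht.1, h1, h2.imp fun K hK => ⟨hK, stable cz hp h.toUn (mem_GF.1 (H.le ht.1)).2 hK⟩⟩
  obtain ⟨a, ha, -⟩ := k2 t rfl
  obtain ⟨Z, -, z1, -, z3, z4⟩ := exists_Zp hp k1
  obtain ⟨s, s1, ⟨i, s2⟩, s3⟩ := exists_one Nat.prime_two hp.symm (qc_of_le (X := X) (Z := Z) fun z hz => by
    obtain ⟨b, hb, s, rfl⟩ := z4 z hz
    exact mem_Z0 (fun c hc => (X.pair_cor (k1 b hb).1 c).trans ((z3 ▸ hc : c ∈ Pe X P).2 b hb)) s) (one_mem _) (one_pow (2 ^ 0))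
  rw [one_mul] at s2 s3
  have s4 := Z0_le_T X Z s1
  obtain ⟨c, hc, -, k4⟩ := tor_rel hP hf hp (Set.finite_singleton s) (Set.singleton_subset_iff.2 s4) (fun _ e => ⟨i, e ▸ s2⟩)
    (cc_one hP hf s4 s2) (fun W hW => (hS X h.toSl _ (h.clo W)).resolve_right fun o => by
      have e : ∀ b ∈ X.Sz W, B X b a = 0 := fun b hb => (h.cpr (k1 a ha).1 b).symm.trans
        ((z3 ▸ Sz_anti (Set.subset_insert _ _) (s3 ▸ Sz_anti hW hb) : b ∈ Pe X P).2 a ha)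
      obtain ⟨b, hb, c, hc, d, hd, u, hu, e1, e2, e3, e4, e5, e6⟩ := o.four h.toUn fun _ h => h.1
      exact h.five hb.1 hc.1 hd.1 hu.1 (k1 a ha).1 e1 e2 e3 e4 e5 e6 (e b hb) (e c hc) (e d hd) (e u hu))
    (H.fin.image fun d => g⁻¹ * d * g) (fun _ ⟨d, hd, e⟩ => e ▸ mul_mem (mul_mem (inv_mem hg) (H.le hd).1) hg)
    (fun _ ⟨d, hd, e⟩ => e ▸ (H.pg d hd).imp fun _ => conj_pow')
    (fun _ ⟨d, hd, e⟩ _ ⟨d', hd', e'⟩ => e ▸ e' ▸ conj_comm (H.ab d hd d' hd'))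
    fun _ e _ ⟨d, hd, e'⟩ => e ▸ e' ▸ (cen_comm_Z0 X Z (by rw [Datum.cen, z3]; exact k3 d hd) s1).symm
  refine ⟨g * c, mul_mem hg hc, fun d hd => ?_⟩
  rw [show (g * c)⁻¹ * d * (g * c) = c⁻¹ * (g⁻¹ * d * g) * c by group]
  exact k4 _ ⟨d, hd, rfl⟩

omit H in
/-- **type `E₆`** -/
theorem geo6 (hS : BoxSat) : Geo X := fun D H => or_iff_not_imp_right.2 fun h0 => by
  have h4 : 4 < (Om D).ncard := not_le.1 fun e => h0 (.inl e)
  obtain ⟨t, ht, h1, h2⟩ := exists_rt cz hp h hP hf H h4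
  obtain ⟨g, hg, h3⟩ := tor_rt cz hp h hP hf H hS ht h1 h2
  obtain ⟨r, s, u, T⟩ := exists_tri H.ab h4
  obtain ⟨d, hd, h5, h6⟩ := T.not_all cz hp h.toUn H.ab hg (h3 _ T.mr.1) (h3 _ T.ms.1) (h3 _ T.mu.1)
  have h8 : 8 < (Om D).ncard := not_le.1 fun e => h0 (.inr ⟨e, t, ht, d, hd, h1, h5, fun y hy e' =>
    h6 (by simpa only [inv_inv, e'] using h2.conj (inv_mem hy))⟩)
  refine toral_of H hg h3 fun y hy hN h7 => ?_
  have h' := h.conj hy hN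
  refine (hS _ h'.toSl _ (h'.clo D)).resolve_right fun o => ?_
  obtain ⟨a, ha, b, hb, c, hc, -, -, e1, e2, -, e3, -⟩ := o.four h'.toUn fun _ h => h.1
  have h9 := Kt.three hp h'.toUn ha.1 hb.1 hc.1 e1 e2 e3
  have h10 := Set.ncard_le_ncard (show Om D ⊆ Kt (X.conj hy hN) {c, b, a} from fun v hv => ⟨h7 hv.1, hv.2, by
    rintro _ (rfl | rfl | rfl)
    exacts [hc.2 v hv.1, hb.2 v hv.1, ha.2 v hv.1]⟩) (Kt.fin h'.toUn _)
  rw [h'.card] at h9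
  omega

end Cfsg.Agent.KM.Ev.Q2
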